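import Cfsg.Agent.Lib.Classical.SmallFieldComm.Fix

/-!
# Induction along a decomposition into primary cyclic endomorphisms
-/

set_option autoImplicit false

universe u

namespace CfsgLib.Classical.SmallFieldComm

open Polynomial Module DirectSum

variable {K : Type u} [Field K]

/-- Induction on the primary cyclic summands. -/
theorem induction_blocks {P : ∀ {V : Type u} [AddCommGroup V] [Module K V], Module.End K V → Prop}
    (hconj : ∀ {V W : Type u} [AddCommGroup V] [Module K V] [AddCommGroup W] [Module K W]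
      (φ : Module.End K V) (ψ : Module.End K W) (E : V ≃ₗ[K] W),
      (∀ x, E (φ x) = ψ (E x)) → P φ → P ψ)
    (hzero : ∀ {V : Type u} [AddCommGroup V] [Module K V] [Subsingleton V] (φ : Module.End K V), P φ)
    (hstep : ∀ {V W : Type u} [AddCommGroup V] [Module K V] [AddCommGroup W] [Module K W]
      [FiniteDimensional K V] [FiniteDimensional K W] (φ : Module.End K V) (ψ : Module.End K W)
      (π : K[X]) (e : ℕ), P φ → Irreducible π → π.Monic → Cyc ψ (π ^ e) → P (φ.prodMap ψ))
    {V : Type u} [AddCommGroup V] [Module K V] [FiniteDimensional K V] (φ : Module.End K V) :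
    P φ := by
  classical
  obtain ⟨ι, _, p, hp, e, ⟨E⟩⟩ := Module.equiv_directSum_of_isTorsion
    (Module.AEval.isTorsion_of_finiteDimensional K V φ)
  let π : ι → K[X] := fun i => p i * C (p i).leadingCoeff⁻¹
  have hassoc : ∀ i, Associated (p i) (π i) := fun i =>
    associated_mul_unit_right _ _ (isUnit_C.2 (isUnit_iff_ne_zero.2
      (inv_ne_zero (leadingCoeff_ne_zero.2 (hp i).ne_zero))))
  have hπm : ∀ i, (π i).Monic := fun i => monic_mul_leadingCoeff_inv (hp i).ne_zero
  have hπi : ∀ i, Irreducible (π i) := fun i => (hassoc i).irreducible (hp i)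
  -- products of models
  have key : ∀ (m : ℕ) (f : Fin m → ι),
      P (LinearMap.pi fun j => (model (π (f j) ^ e (f j))).comp (LinearMap.proj j) :
        Module.End K ((j : Fin m) → AdjoinRoot (π (f j) ^ e (f j)))) := by
    intro m
    induction m with
    | zero => intro f; exact hzero _
    | succ m ih =>
      intro f
      have : ∀ j, Module.Finite K (AdjoinRoot (π (f j) ^ e (f j))) := fun j =>
        (AdjoinRoot.powerBasis ((hπm _).pow _).ne_zero).finite
      refine hconj _ _ ((LinearEquiv.prodComm K _ _).trans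
        (Fin.consLinearEquiv K fun j => AdjoinRoot (π (f j) ^ e (f j)))) (fun x => ?_)
        (hstep _ _ _ _ (ih fun j => f j.succ) (hπi (f 0)) (hπm (f 0)) (cyc_model ((hπm _).pow _)))
      funext j
      refine Fin.cases ?_ (fun j => ?_) j <;> simp [Fin.consLinearEquiv]
  let Q : ι → Submodule K[X] K[X] := fun i => K[X] ∙ (p i ^ e i)
  have hspan : ∀ i, Q i = Ideal.span {π i ^ e i} := fun i =>
    Ideal.span_singleton_eq_span_singleton.2 ((hassoc i).pow_pow)
  let g := Fintype.equivFin ι
  let G : (i : ι) → (K[X] ⧸ Q i) ≃ₗ[K] AdjoinRoot (π i ^ e i) := fun i =>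
    (Submodule.quotEquivOfEq (Q i) (Ideal.span {π i ^ e i}) (hspan i)).restrictScalars K
  let E₁ : V ≃ₗ[K] ((i : ι) → AdjoinRoot (π i ^ e i)) :=
    ((Module.AEval'.of φ).trans
      ((E.trans (DirectSum.linearEquivFunOnFintype K[X] ι fun i => K[X] ⧸ Q i)).restrictScalars K)).trans
      (LinearEquiv.piCongrRight G)
  let E₂ : ((j : Fin (Fintype.card ι)) → AdjoinRoot (π (g.symm j) ^ e (g.symm j))) ≃ₗ[K]
      ((i : ι) → AdjoinRoot (π i ^ e i)) :=
    LinearEquiv.piCongrLeft K (fun i => AdjoinRoot (π i ^ e i)) g.symm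
  refine hconj _ φ (E₂.trans E₁.symm) (fun x => ?_) (key _ fun j => g.symm j)
  apply E₁.injective
  simp only [LinearEquiv.trans_apply, E₁.apply_symm_apply]
  have hE₁ : ∀ v, E₁ (φ v) = fun i => model (π i ^ e i) (E₁ v i) := by
    intro v
    funext i
    simp only [E₁, LinearEquiv.trans_apply, LinearEquiv.restrictScalars_apply,
      LinearEquiv.piCongrRight_apply]
    rw [show Module.AEval'.of φ (φ v) = (X : K[X]) • Module.AEval'.of φ v from
      (Module.AEval.X_smul_of φ v).symm, map_smul, map_smul, Pi.smul_apply]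
    generalize DirectSum.linearEquivFunOnFintype K[X] ι (fun i => K[X] ⧸ Q i)
      (E (Module.AEval'.of φ v)) i = w
    obtain ⟨r, rfl⟩ := Submodule.Quotient.mk_surjective _ w
    rfl
  rw [hE₁, E₁.apply_symm_apply]
  funext i
  obtain ⟨j, rfl⟩ := g.symm.surjective i
  simp [E₂, LinearEquiv.piCongrLeft, Equiv.piCongrLeft]

end CfsgLib.Classical.SmallFieldComm
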