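import Mathlib

/-!
# Commutators in the special linear group: cyclic endomorphisms

`Cyc φ p` says that `φ` is cyclic with characteristic polynomial `p`, and `IsComm φ e` gives the
data writing `φ` as a commutator, with a free determinant `e`.
-/

set_option autoImplicit false

universe u v

namespace CfsgLib.Classical.SmallFieldComm

open Polynomial Module

variable {K : Type u} [Field K] {V W : Type v} [AddCommGroup V] [Module K V] [AddCommGroup W]
  [Module K W]

/-- A cyclic endomorphism with a given polynomial. -/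
def Cyc (φ : Module.End K V) (p : K[X]) : Prop :=
  p.Monic ∧ FiniteDimensional K V ∧ p.natDegree = finrank K V ∧
    ∃ v : V, ∀ r : K[X], aeval φ r v = 0 ↔ p ∣ r

/-- `φ = [φ α, b]` with `α` of determinant `e` and `b` of determinant one. -/
def IsComm (φ : Module.End K V) (e : K) : Prop :=
  ∃ α b : Module.End K V, LinearMap.det α = e ∧ LinearMap.det b = 1 ∧ α * b = b * (φ * α)

/-- The centraliser of `α` has every nonzero determinant. -/
def HasFix (α : Module.End K V) : Prop :=
  ∀ μ : K, μ ≠ 0 → ∃ c : Module.End K V, c * α = α * c ∧ LinearMap.det c = μ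

theorem aeval_conj (e : V ≃ₗ[K] W) {φ : Module.End K V} {ψ : Module.End K W}
    (h : ∀ x, e (φ x) = ψ (e x)) (r : K[X]) (x : V) : e (aeval φ r x) = aeval ψ r (e x) := by
  induction r using Polynomial.induction_on' with
  | add r s hr hs => simp [hr, hs]
  | monomial n a =>
    have hpow : ∀ (n : ℕ) (x : V), e ((φ ^ n) x) = (ψ ^ n) (e x) := by
      intro n
      induction n with
      | zero => intro x; simp
      | succ n ih =>
        intro x
        rw [pow_succ, pow_succ, Module.End.mul_apply, Module.End.mul_apply, ih, h]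
    simp [aeval_monomial, hpow]

theorem Cyc.of_conj {φ : Module.End K V} {ψ : Module.End K W} {p : K[X]} (hφ : Cyc φ p)
    (e : V ≃ₗ[K] W) (h : ∀ x, e (φ x) = ψ (e x)) : Cyc ψ p := by
  obtain ⟨hp, hfd, hd, v, hv⟩ := hφ
  refine ⟨hp, Module.Finite.equiv e, hd.trans e.finrank_eq, e v, fun r => ?_⟩
  rw [← hv r, ← aeval_conj e h, e.map_eq_zero_iff]

section Basis

variable {φ : Module.End K V} {p : K[X]}

/-- The map from polynomials of small degree. -/
noncomputable def evalAt (φ : Module.End K V) (v : V) : K[X] →ₗ[K] V :=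
  (LinearMap.applyₗ v : Module.End K V →ₗ[K] V).comp (aeval φ).toLinearMap

@[simp] theorem evalAt_apply (φ : Module.End K V) (v : V) (r : K[X]) :
    evalAt φ v r = aeval φ r v := rfl

theorem bijective_of (hp : p.Monic) [FiniteDimensional K V] (hd : p.natDegree = finrank K V) {v : V}
    (hv : ∀ r : K[X], r.natDegree < p.natDegree → aeval φ r v = 0 → r = 0) :
    Function.Bijective ((evalAt φ v).comp (degreeLT K p.natDegree).subtype) := by
  have hinj : Function.Injective ((evalAt φ v).comp (degreeLT K p.natDegree).subtype) := by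
    refine (injective_iff_map_eq_zero _).2 fun r hr => ?_
    by_contra hne
    have h0 : (r : K[X]) ≠ 0 := fun h => hne (Subtype.ext h)
    exact h0 (hv r ((natDegree_lt_iff_degree_lt h0).2 (mem_degreeLT.1 r.2)) hr)
  refine ⟨hinj, (LinearMap.injective_iff_surjective_of_finrank_eq_finrank ?_).1 hinj⟩
  rw [(degreeLTEquiv K p.natDegree).finrank_eq, finrank_pi K, Fintype.card_fin, hd]

theorem Cyc.exists_equiv {ψ : Module.End K W} (hφ : Cyc φ p) (hψ : Cyc ψ p) :
    ∃ e : V ≃ₗ[K] W, ∀ x, e (φ x) = ψ (e x) := by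
  obtain ⟨hp, hV, hdV, v, hv⟩ := hφ
  obtain ⟨-, hW, hdW, w, hw⟩ := hψ
  have hsmall : ∀ {U : Type v} [AddCommGroup U] [Module K U] {f : Module.End K U} {u : U},
      (∀ r : K[X], aeval f r u = 0 ↔ p ∣ r) →
      ∀ r : K[X], r.natDegree < p.natDegree → aeval f r u = 0 → r = 0 := by
    intro U _ _ f u hu r hr h
    by_contra h0
    exact absurd (natDegree_le_of_dvd ((hu r).1 h) h0) hr.not_ge
  let LV := LinearEquiv.ofBijective _ (bijective_of hp hdV (hsmall hv))
  let LW := LinearEquiv.ofBijective _ (bijective_of hp hdW (hsmall hw))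
  let e := LV.symm.trans LW
  have key : ∀ r : K[X], e (aeval φ r v) = aeval ψ r w := by
    intro r
    have hmem : r %ₘ p ∈ degreeLT K p.natDegree := by
      rw [mem_degreeLT, ← degree_eq_natDegree hp.ne_zero]
      exact degree_modByMonic_lt r hp
    have h1 : aeval φ r v = LV ⟨_, hmem⟩ := by
      show _ = aeval φ (r %ₘ p) v
      rw [← sub_eq_zero, ← LinearMap.sub_apply, ← map_sub, hv]
      exact dvd_sub_comm.1 (by rw [modByMonic_eq_sub_mul_div, sub_sub_cancel_left, dvd_neg]; exact dvd_mul_right _ _)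
    have h2 : aeval ψ r w = LW ⟨_, hmem⟩ := by
      show _ = aeval ψ (r %ₘ p) w
      rw [← sub_eq_zero, ← LinearMap.sub_apply, ← map_sub, hw]
      exact dvd_sub_comm.1 (by rw [modByMonic_eq_sub_mul_div, sub_sub_cancel_left, dvd_neg]; exact dvd_mul_right _ _)
    rw [h1, h2]
    simp [e]
  refine ⟨e, fun x => ?_⟩
  obtain ⟨r, rfl⟩ := LV.surjective x
  show e (φ (aeval φ (r : K[X]) v)) = ψ (e (aeval φ (r : K[X]) v))
  have h1 := key (X * (r : K[X]))
  rw [map_mul, map_mul, aeval_X, aeval_X, Module.End.mul_apply, Module.End.mul_apply] at h1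
  rw [h1, key]

theorem Cyc.aeval_self (hφ : Cyc φ p) : aeval φ p = 0 := by
  obtain ⟨hp, hV, hd, v, hv⟩ := hφ
  have hsmall : ∀ r : K[X], r.natDegree < p.natDegree → aeval φ r v = 0 → r = 0 := by
    intro r hr h
    by_contra h0
    exact absurd (natDegree_le_of_dvd ((hv r).1 h) h0) hr.not_ge
  refine LinearMap.ext fun x => ?_
  obtain ⟨r, rfl⟩ := (bijective_of hp hd hsmall).2 x
  show aeval φ p (aeval φ (r : K[X]) v) = 0
  rw [← Module.End.mul_apply, ← map_mul, hv]
  exact dvd_mul_right _ _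

theorem Cyc.charpoly_eq [FiniteDimensional K V] (hφ : Cyc φ p) : φ.charpoly = p := by
  have hann := hφ.aeval_self
  obtain ⟨hp, -, hd, v, hv⟩ := hφ
  have h1 : p ∣ φ.charpoly := (hv _).1 (by rw [LinearMap.aeval_self_charpoly]; rfl)
  exact eq_of_monic_of_dvd_of_natDegree_le hp φ.charpoly_monic h1
    (by rw [LinearMap.charpoly_natDegree, hd])

end Basis

/-- The determinant from the polynomial. -/
theorem Cyc.det_eq {φ : Module.End K V} {p : K[X]} (hφ : Cyc φ p) :
    LinearMap.det φ = (-1) ^ p.natDegree * p.coeff 0 := by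
  have := hφ.2.1
  have h := LinearMap.det_eq_sign_charpoly_coeff φ
  rw [hφ.charpoly_eq] at h
  rw [h, hφ.2.2.1]

theorem Cyc.prod {φ : Module.End K V} {ψ : Module.End K W} {p q : K[X]} (hφ : Cyc φ p)
    (hψ : Cyc ψ q) (hpq : IsCoprime p q) : Cyc (φ.prodMap ψ) (p * q) := by
  obtain ⟨hp, hV, hdV, v, hv⟩ := hφ
  obtain ⟨hq, hW, hdW, w, hw⟩ := hψ
  refine ⟨hp.mul hq, inferInstance, ?_, (v, w), fun r => ?_⟩
  · rw [natDegree_mul hp.ne_zero hq.ne_zero, Module.finrank_prod, hdV, hdW]
  · have h : aeval (φ.prodMap ψ) r (v, w) = (aeval φ r v, aeval ψ r w) := by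
      induction r using Polynomial.induction_on' with
      | add r s hr hs => simp [hr, hs]
      | monomial n a =>
        have hpow : ∀ n : ℕ, (φ.prodMap ψ) ^ n = (φ ^ n).prodMap (ψ ^ n) := by
          intro n
          induction n with
          | zero => simp [LinearMap.prodMap_one]
          | succ n ih => rw [pow_succ, ih, LinearMap.prodMap_mul, ← pow_succ, ← pow_succ]
        simp [aeval_monomial, hpow]
    rw [h, Prod.mk_eq_zero, hv, hw]
    exact ⟨fun h => hpq.mul_dvd h.1 h.2, fun h => ⟨(dvd_mul_right _ _).trans h, (dvd_mul_left _ _).trans h⟩⟩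

/-- The model of a cyclic endomorphism. -/
noncomputable def model (p : K[X]) : Module.End K (AdjoinRoot p) :=
  Algebra.lmul K (AdjoinRoot p) (AdjoinRoot.root p)

theorem cyc_model {p : K[X]} (hp : p.Monic) : Cyc (model p) p := by
  let pb := AdjoinRoot.powerBasis hp.ne_zero
  refine ⟨hp, pb.finite, ?_, 1, fun r => ?_⟩
  · rw [pb.finrank, AdjoinRoot.powerBasis_dim]
  · rw [model, aeval_algHom_apply, Algebra.lmul, AdjoinRoot.aeval_eq]
    simp [AdjoinRoot.mk_eq_zero]

section Comm

variable {φ : Module.End K V} {ψ : Module.End K W} {e f : K}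

theorem IsComm.conj (h : IsComm φ e) (E : V ≃ₗ[K] W) (hE : ∀ x, E (φ x) = ψ (E x)) :
    IsComm ψ e := by
  obtain ⟨α, b, hα, hb, hab⟩ := h
  refine ⟨(E.toLinearMap ∘ₗ α) ∘ₗ E.symm.toLinearMap, (E.toLinearMap ∘ₗ b) ∘ₗ E.symm.toLinearMap,
    by rw [LinearMap.comp_assoc, LinearMap.det_conj, hα],
    by rw [LinearMap.comp_assoc, LinearMap.det_conj, hb], ?_⟩
  refine LinearMap.ext fun y => ?_
  have h1 := congrArg E (LinearMap.congr_fun hab (E.symm y))
  simp only [Module.End.mul_apply] at h1
  simp only [Module.End.mul_apply, LinearMap.comp_apply, LinearEquiv.coe_coe,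
    LinearEquiv.symm_apply_apply]
  rw [h1]
  rw [← hE, E.symm_apply_apply]

theorem IsComm.prod [FiniteDimensional K V] [FiniteDimensional K W] (h : IsComm φ e)
    (h' : IsComm ψ f) : IsComm (φ.prodMap ψ) (e * f) := by
  obtain ⟨α, b, hα, hb, hab⟩ := h
  obtain ⟨α', b', hα', hb', hab'⟩ := h'
  refine ⟨α.prodMap α', b.prodMap b', by rw [LinearMap.det_prodMap, hα, hα'],
    by rw [LinearMap.det_prodMap, hb, hb', mul_one], ?_⟩
  rw [LinearMap.prodMap_mul, LinearMap.prodMap_mul, LinearMap.prodMap_mul, hab, hab']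

/-- A similarity between `φ α` and `α` gives a commutator. -/
theorem isComm_of_equiv (α : Module.End K V) (hα : LinearMap.det α = e) (hfix : HasFix α)
    (E : V ≃ₗ[K] V) (hE : ∀ x, E (φ (α x)) = α (E x)) : IsComm φ e := by
  obtain ⟨c, hc, hcd⟩ := hfix (LinearMap.det (E : V →ₗ[K] V))⁻¹
    (inv_ne_zero E.isUnit_det'.ne_zero)
  refine ⟨α, c * (E : V →ₗ[K] V), hα,
    by rw [map_mul, hcd, inv_mul_cancel₀ E.isUnit_det'.ne_zero], ?_⟩
  rw [← mul_assoc, ← hc, mul_assoc, mul_assoc]
  congr 1
  exact LinearMap.ext fun x => (hE x).symm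

theorem HasFix.prod_left [FiniteDimensional K V] [FiniteDimensional K W] {α : Module.End K V}
    (h : HasFix α) (β : Module.End K W) : HasFix (α.prodMap β) := by
  intro μ hμ
  obtain ⟨c, hc, hcd⟩ := h μ hμ
  refine ⟨c.prodMap 1, ?_, by rw [LinearMap.det_prodMap, hcd, map_one, mul_one]⟩
  rw [LinearMap.prodMap_mul, LinearMap.prodMap_mul, hc, one_mul, mul_one]

end Comm

end CfsgLib.Classical.SmallFieldComm
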