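import Cfsg.Agent.Lib.Classical.SmallFieldComm.Basic

/-!
# A cyclic endomorphism times a nearly triangular one

If `φ` is cyclic of degree `k + 3` then some cyclic `α` with polynomial `(X - t) ^ (k + 1) * q`,
`q` a quadratic, makes `φ α` cyclic with any polynomial of the right constant term.
-/

set_option autoImplicit false

universe u v

namespace CfsgLib.Classical.SmallFieldComm

open Polynomial Module

variable {K : Type u} [Field K] {V : Type v} [AddCommGroup V] [Module K V]

/-- A vector with independent images of small degree is cyclic. -/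
theorem cyc_charpoly [FiniteDimensional K V] (M : Module.End K V) {v : V}
    (h : ∀ r : K[X], r.natDegree < finrank K V → aeval M r v = 0 → r = 0) :
    Cyc M M.charpoly := by
  refine ⟨M.charpoly_monic, inferInstance, M.charpoly_natDegree, v, fun r => ⟨fun hr => ?_, ?_⟩⟩
  · by_cases h0 : finrank K V = 0
    · rw [eq_one_of_monic_natDegree_zero M.charpoly_monic (by rw [M.charpoly_natDegree, h0])]
      exact one_dvd _
    have hne : M.charpoly ≠ 1 := fun he => h0 (by rw [← M.charpoly_natDegree, he, natDegree_one])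
    rw [← modByMonic_eq_zero_iff_dvd M.charpoly_monic]
    refine h _ ?_ ?_
    · rw [← M.charpoly_natDegree]
      exact natDegree_modByMonic_lt r M.charpoly_monic hne
    · rw [← LinearMap.aeval_eq_aeval_mod_charpoly, hr]
  · rintro ⟨s, rfl⟩
    rw [map_mul, LinearMap.aeval_self_charpoly, zero_mul, LinearMap.zero_apply]

theorem trace_eq_neg_nextCoeff [FiniteDimensional K V] (M : Module.End K V) :
    LinearMap.trace K V M = -M.charpoly.nextCoeff := by
  classical
  let b := finBasis K V
  rw [LinearMap.trace_eq_matrix_trace K b, ← LinearMap.charpoly_toMatrix M b,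
    Matrix.trace_eq_neg_charpoly_nextCoeff]

section Family

variable {k : ℕ} (b : Basis (Fin (k + 3)) K V) (φ : Module.End K V) (t u q₀ q₁ : K)

/-- The coefficient of the image of the last basis vector. -/
noncomputable def top : K := b.repr (φ (b (Fin.last (k + 2)))) (Fin.last (k + 2))

/-- The left upper entry of the lower block. -/
noncomputable def a₁ : K := 1 - top b φ

/-- The images of the basis vectors. -/
noncomputable def imgs (s : K) (x : V) (i : Fin (k + 3)) : V :=
  if h : (i : ℕ) ≤ k then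
    (if (i : ℕ) = k then u else t) • b i + (if h0 : (i : ℕ) = 0 then 0 else b ⟨(i : ℕ) - 1, by omega⟩)
  else if (i : ℕ) = k + 1 then
    a₁ b φ • b i + b (Fin.last (k + 2)) + s • b ⟨k, by omega⟩
  else
    (a₁ b φ * (-q₁ - a₁ b φ) - q₀) • b ⟨k + 1, by omega⟩ + (-q₁ - a₁ b φ) • b i + x

/-- The factor. -/
noncomputable def alph (s : K) (x : V) : Module.End K V := b.constr K (imgs b φ t u q₀ q₁ s x)

/-- The part spanned by the first `k + 1` basis vectors. -/
def low : Submodule K V where
  carrier := {y | ∀ j : Fin (k + 3), k < (j : ℕ) → b.repr y j = 0}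
  add_mem' {y z} hy hz j hj := by simp [hy j hj, hz j hj]
  zero_mem' j _ := by simp
  smul_mem' c y hy j hj := by simp [hy j hj]

theorem basis_mem_low {i : Fin (k + 3)} (h : (i : ℕ) ≤ k) : b i ∈ low b := fun j hj => by
  rw [b.repr_self, Finsupp.single_apply, if_neg]
  exact fun e => by subst e; omega

theorem eq_sum (y : V) : y = ∑ j, b.repr y j • b j := (b.sum_repr y).symm

variable {b φ t u q₀ q₁} {s : K} {x : V}

theorem low_induction {P : V → Prop} (h0 : P 0) (hadd : ∀ y z, P y → P z → P (y + z))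
    (hsmul : ∀ (c : K) (y), P y → P (c • y)) (hb : ∀ i : Fin (k + 3), (i : ℕ) ≤ k → P (b i))
    {y : V} (hy : y ∈ low b) : P y := by
  rw [eq_sum b y]
  refine Finset.sum_induction _ P hadd h0 fun j _ => ?_
  by_cases hj : (j : ℕ) ≤ k
  · exact hsmul _ _ (hb j hj)
  · rw [hy j (by omega), zero_smul]; exact h0

theorem alph_low {i : Fin (k + 3)} (h : (i : ℕ) ≤ k) :
    alph b φ t u q₀ q₁ s x (b i) =
      (if (i : ℕ) = k then u else t) • b i + (if h0 : (i : ℕ) = 0 then 0 else b ⟨(i : ℕ) - 1, by omega⟩) := by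
  rw [alph, b.constr_basis, imgs, dif_pos h]

theorem alph_pen {i : Fin (k + 3)} (h : (i : ℕ) = k + 1) :
    alph b φ t u q₀ q₁ s x (b i) =
      a₁ b φ • b i + b (Fin.last (k + 2)) + s • b ⟨k, by omega⟩ := by
  rw [alph, b.constr_basis, imgs, dif_neg (by omega), if_pos h]

theorem alph_last :
    alph b φ t u q₀ q₁ s x (b (Fin.last (k + 2))) =
      (a₁ b φ * (-q₁ - a₁ b φ) - q₀) • b ⟨k + 1, by omega⟩ +
        (-q₁ - a₁ b φ) • b (Fin.last (k + 2)) + x := by
  rw [alph, b.constr_basis, imgs, dif_neg (by simp), if_neg (by simp)]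

theorem alph_mem_low {y : V} (hy : y ∈ low b) : alph b φ t u q₀ q₁ s x y ∈ low b := by
  refine low_induction (P := fun y => alph b φ t u q₀ q₁ s x y ∈ low b) (by simp)
    (fun y z hy hz => by rw [map_add]; exact add_mem hy hz)
    (fun c y hy => by rw [map_smul]; exact Submodule.smul_mem _ c hy) (fun i hi => ?_) hy
  rw [alph_low hi]
  refine add_mem (Submodule.smul_mem _ _ (basis_mem_low b hi)) ?_
  split
  · exact zero_mem _
  · exact basis_mem_low b (by simp only; omega)

theorem alph_eq_on_low {s' : K} {x' : V} {y : V} (hy : y ∈ low b) :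
    alph b φ t u q₀ q₁ s x y = alph b φ t u q₀ q₁ s' x' y := by
  refine low_induction (P := fun y => alph b φ t u q₀ q₁ s x y = alph b φ t u q₀ q₁ s' x' y) (by simp)
    (fun y z hy hz => by rw [map_add, map_add, hy, hz])
    (fun c y hy => by rw [map_smul, map_smul, hy]) (fun i hi => ?_) hy
  rw [alph_low hi, alph_low hi]

theorem low_induction' {P : V → Prop} (h0 : P 0) (hadd : ∀ y z, P y → P z → P (y + z))
    (hsmul : ∀ (c : K) (y), P y → P (c • y)) (hb : ∀ i : Fin (k + 3), (i : ℕ) < k → P (b i))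
    {y : V} (hy : y ∈ low b) (hyk : b.repr y ⟨k, by omega⟩ = 0) : P y := by
  rw [eq_sum b y]
  refine Finset.sum_induction _ P hadd h0 fun j _ => ?_
  by_cases hj : (j : ℕ) < k
  · exact hsmul _ _ (hb j hj)
  by_cases hjk : (j : ℕ) = k
  · rw [show j = ⟨k, by omega⟩ from Fin.ext hjk, hyk, zero_smul]; exact h0
  · rw [hy j (by omega), zero_smul]; exact h0

theorem sub_pow_apply (i : Fin (k + 3)) (hi : (i : ℕ) < k) :
    ((alph b φ t u q₀ q₁ s x - t • 1) ^ (i : ℕ)) (b i) = b 0 ∧
      ((alph b φ t u q₀ q₁ s x - t • 1) ^ ((i : ℕ) + 1)) (b i) = 0 := by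
  obtain ⟨n, hn⟩ := i
  induction n with
  | zero =>
    refine ⟨rfl, ?_⟩
    rw [zero_add, pow_one, LinearMap.sub_apply, LinearMap.smul_apply, Module.End.one_apply,
      alph_low hi.le, if_neg hi.ne, dif_pos rfl, add_zero, sub_self]
  | succ n ih =>
    have h1 : (alph b φ t u q₀ q₁ s x - t • 1) (b ⟨n + 1, hn⟩) = b ⟨n, by omega⟩ := by
      rw [LinearMap.sub_apply, LinearMap.smul_apply, Module.End.one_apply, alph_low hi.le,
        if_neg hi.ne, dif_neg (by simp), add_sub_cancel_left]
      rfl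
    obtain ⟨h2, h3⟩ := ih (by omega) (show n < k by simp only at hi; omega)
    refine ⟨?_, ?_⟩
    · rw [pow_succ, Module.End.mul_apply, h1, h2]
    · rw [pow_succ, Module.End.mul_apply, h1, h3]

/-- The coordinate `k - 1`. -/
noncomputable def sec (y : V) : K := b.repr y ⟨k - 1, by omega⟩

theorem sub_pow_low' (hk : k ≠ 0) {y : V} (hy : y ∈ low b) (hyk : b.repr y ⟨k, by omega⟩ = 0) :
    ((alph b φ t u q₀ q₁ s x - t • 1) ^ (k - 1)) y = sec (b := b) y • b 0 ∧
      ((alph b φ t u q₀ q₁ s x - t • 1) ^ k) y = 0 := by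
  set N := alph b φ t u q₀ q₁ s x - t • 1
  refine low_induction' (P := fun y => (N ^ (k - 1)) y = sec (b := b) y • b 0 ∧ (N ^ k) y = 0)
    (by simp [sec]) (fun y z hy hz => by simp [sec, map_add, add_smul, hy.1, hy.2, hz.1, hz.2])
    (fun c y hy => by simp [sec, map_smul, hy.1, hy.2, smul_smul]) (fun i hi => ?_) hy hyk
  obtain ⟨h1, h2⟩ := sub_pow_apply (b := b) (φ := φ) (t := t) (u := u) (q₀ := q₀) (q₁ := q₁) (s := s) (x := x) i hi
  have h0 : ∀ n, (i : ℕ) + 1 ≤ n → (N ^ n) (b i) = 0 := fun n hn => by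
    rw [show n = (n - ((i : ℕ) + 1)) + ((i : ℕ) + 1) by omega, pow_add, Module.End.mul_apply, h2,
      map_zero]
  refine ⟨?_, h0 _ (by omega)⟩
  rw [sec, b.repr_self, Finsupp.single_apply]
  by_cases hik : (i : ℕ) = k - 1
  · rw [if_pos (Fin.ext hik), one_smul, ← h1, hik]
  · rw [if_neg fun e => hik (congrArg Fin.val e), zero_smul, h0 _ (by omega)]

theorem repr_alph_low {y : V} (hy : y ∈ low b) :
    b.repr (alph b φ t u q₀ q₁ s x y) ⟨k, by omega⟩ = u * b.repr y ⟨k, by omega⟩ := by
  refine low_induction (P := fun y => b.repr (alph b φ t u q₀ q₁ s x y) ⟨k, by omega⟩ =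
    u * b.repr y ⟨k, by omega⟩) (by simp) (fun y z hy hz => by simp [map_add, hy, hz, mul_add])
    (fun c y hy => by simp [map_smul, hy]; ring) (fun i hi => ?_) hy
  rw [alph_low hi]
  by_cases hik : (i : ℕ) = k
  · rw [if_pos hik]
    split <;> simp [Finsupp.single_apply, Fin.ext_iff, hik] <;> omega
  · rw [if_neg hik]
    split <;> simp [Finsupp.single_apply, Fin.ext_iff, hik] <;> omega

/-- The second functional. -/
noncomputable def top₂ (t u : K) (y : V) : K := b.repr y ⟨k, by omega⟩ + (t - u) * sec (b := b) y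

theorem sec_alph_low (hk : k ≠ 0) {y : V} (hy : y ∈ low b) :
    sec (b := b) (alph b φ t u q₀ q₁ s x y) = b.repr y ⟨k, by omega⟩ + t * sec (b := b) y := by
  refine low_induction (P := fun y => sec (b := b) (alph b φ t u q₀ q₁ s x y) =
    b.repr y ⟨k, by omega⟩ + t * sec (b := b) y) (by simp [sec])
    (fun y z hy hz => by simp [sec, map_add] at hy hz ⊢; rw [hy, hz]; ring)
    (fun c y hy => by simp [sec, map_smul] at hy ⊢; rw [hy]; ring) (fun i hi => ?_) hy
  rw [alph_low hi, sec, sec]
  by_cases hik : (i : ℕ) = k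
  · rw [if_pos hik, dif_neg (by omega)]
    have e1 : k ≠ k - 1 := by omega
    simp [Finsupp.single_apply, Fin.ext_iff, hik, e1]
  · rw [if_neg hik]
    split <;> simp [Finsupp.single_apply, Fin.ext_iff, hik] <;> omega

theorem sub_pow_ne_zero {y : V} (hy : y ∈ low b) (h1 : b.repr y ⟨k, by omega⟩ ≠ 0)
    (h2 : k ≠ 0 → top₂ (b := b) t u y ≠ 0) :
    ((alph b φ t u q₀ q₁ s x - t • 1) ^ k) y ≠ 0 ∧
      (k ≠ 0 → ((alph b φ t u q₀ q₁ s x - t • 1) ^ (k - 1))
        ((alph b φ t u q₀ q₁ s x - u • 1) y) ≠ 0) := by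
  set A := alph b φ t u q₀ q₁ s x with hA
  set N := A - t • (1 : Module.End K V)
  have hsec : ∀ hk : k ≠ 0, (N ^ (k - 1)) ((A - u • 1) y) = top₂ (b := b) t u y • b 0 := by
    intro hk
    have hlow : (A - u • 1) y ∈ low b := by
      rw [LinearMap.sub_apply, LinearMap.smul_apply, Module.End.one_apply]
      exact sub_mem (alph_mem_low hy) (Submodule.smul_mem _ _ hy)
    rw [(sub_pow_low' hk hlow (by simp [hA, repr_alph_low hy])).1]
    congr 1
    rw [top₂, sec, LinearMap.sub_apply, LinearMap.smul_apply, Module.End.one_apply, map_sub,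
      map_smul, Finsupp.sub_apply, Finsupp.smul_apply]
    rw [show b.repr (A y) ⟨k - 1, by omega⟩ = sec (b := b) (A y) from rfl, hA, sec_alph_low hk hy]
    simp only [sec, smul_eq_mul]
    ring
  have hne : k ≠ 0 → (N ^ (k - 1)) ((A - u • 1) y) ≠ 0 := fun hk => by
    rw [hsec hk]; exact smul_ne_zero (h2 hk) (b.ne_zero 0)
  refine ⟨?_, hne⟩
  by_cases htu : u = t
  · by_cases hk : k = 0
    · subst hk
      intro h
      exact h1 (by rw [show y = 0 by simpa using h]; simp)
    · intro h
      apply hne hk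
      rw [htu, show A - t • (1 : Module.End K V) = N from rfl, ← Module.End.mul_apply, ← pow_succ,
        Nat.sub_add_cancel (Nat.one_le_iff_ne_zero.2 hk), h]
  · have key : ∀ n : ℕ, (N ^ n) y ∈ low b ∧
        b.repr ((N ^ n) y) ⟨k, by omega⟩ = (u - t) ^ n * b.repr y ⟨k, by omega⟩ := by
      intro n
      induction n with
      | zero => simp [hy]
      | succ n ih =>
        rw [pow_succ', Module.End.mul_apply]
        refine ⟨?_, ?_⟩
        · show (A - t • 1) _ ∈ low b
          rw [LinearMap.sub_apply, LinearMap.smul_apply, Module.End.one_apply]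
          exact sub_mem (alph_mem_low ih.1) (Submodule.smul_mem _ _ ih.1)
        · show b.repr ((A - t • 1) _) _ = _
          simp only [LinearMap.sub_apply, LinearMap.smul_apply, Module.End.one_apply, map_sub,
            map_smul, Finsupp.sub_apply, Finsupp.smul_apply, hA, repr_alph_low ih.1, ih.2, smul_eq_mul]
          ring
    intro h
    have := (key k).2
    rw [h, map_zero, Finsupp.zero_apply] at this
    exact mul_ne_zero (pow_ne_zero k (sub_ne_zero.2 htu)) h1 this.symm

theorem mul_sub_pow_low {y : V} (hy : y ∈ low b) :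
    ((alph b φ t u q₀ q₁ s x - t • 1) ^ k) ((alph b φ t u q₀ q₁ s x - u • 1) y) = 0 := by
  have hlow : (alph b φ t u q₀ q₁ s x - u • 1) y ∈ low b := by
    rw [LinearMap.sub_apply, LinearMap.smul_apply, Module.End.one_apply]
    exact sub_mem (alph_mem_low hy) (Submodule.smul_mem _ _ hy)
  have h0 : b.repr ((alph b φ t u q₀ q₁ s x - u • 1) y) ⟨k, by omega⟩ = 0 := by
    simp [repr_alph_low hy]
  by_cases hk : k = 0
  · subst hk
    rw [pow_zero, Module.End.one_apply]
    exact low_induction' (b := b) (P := fun y => y = 0) rfl (fun y z hy hz => by rw [hy, hz, add_zero])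
      (fun c y hy => by rw [hy, smul_zero]) (fun i hi => absurd hi (Nat.not_lt_zero _)) hlow h0
  · exact (sub_pow_low' hk hlow h0).2

/-- The quadratic of the lower block. -/
noncomputable def quad (q₀ q₁ : K) : K[X] := X ^ 2 + C q₁ * X + C q₀

theorem aeval_quad_apply (A : Module.End K V) (y : V) :
    aeval A (quad q₀ q₁) y = A (A y) + q₁ • A y + q₀ • y := by
  simp [quad, pow_two]

theorem quad_maps_low (hx : x ∈ low b) (y : V) :
    aeval (alph b φ t u q₀ q₁ s x) (quad q₀ q₁) y ∈ low b := by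
  set A := alph b φ t u q₀ q₁ s x with hA
  rw [eq_sum b y, map_sum]
  refine Submodule.sum_mem _ fun j _ => ?_
  rw [map_smul]
  refine Submodule.smul_mem _ _ ?_
  rw [aeval_quad_apply]
  by_cases hj : (j : ℕ) ≤ k
  · exact add_mem (add_mem (alph_mem_low (alph_mem_low (basis_mem_low b hj)))
      (Submodule.smul_mem _ _ (alph_mem_low (basis_mem_low b hj))))
      (Submodule.smul_mem _ _ (basis_mem_low b hj))
  intro i hi
  have hk : A (b ⟨k, by omega⟩) ∈ low b := alph_mem_low (basis_mem_low b le_rfl)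
  have hlow := hx i hi
  have hAx := alph_mem_low (φ := φ) (t := t) (u := u) (q₀ := q₀) (q₁ := q₁) (s := s) (x := x) hx i hi
  have hbk : b.repr (b ⟨k, by omega⟩) i = 0 := basis_mem_low b (i := ⟨k, by omega⟩) le_rfl i hi
  have hAbk : b.repr (A (b ⟨k, by omega⟩)) i = 0 := hk i hi
  rw [← hA] at hAx
  have hp : A (b ⟨k + 1, by omega⟩) =
      a₁ b φ • b ⟨k + 1, by omega⟩ + b (Fin.last (k + 2)) + s • b ⟨k, by omega⟩ := alph_pen rfl
  have hl : A (b (Fin.last (k + 2))) = _ := alph_last
  by_cases hj1 : (j : ℕ) = k + 1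
  · rw [show j = ⟨k + 1, by omega⟩ from Fin.ext hj1]
    simp only [hp, hl, map_add, map_smul, Finsupp.coe_add, Pi.add_apply, Finsupp.coe_smul,
      Pi.smul_apply, smul_eq_mul, hlow, hbk, hAbk]
    ring
  · rw [show j = Fin.last (k + 2) from Fin.ext (by simp only [Fin.val_last]; omega)]
    simp only [hp, hl, map_add, map_smul, Finsupp.coe_add, Pi.add_apply, Finsupp.coe_smul,
      Pi.smul_apply, smul_eq_mul, hlow, hbk, hAbk, hAx]
    ring

set_option maxHeartbeats 1000000 in
theorem cyc_alph [FiniteDimensional K V] (hx : x ∈ low b) (hqt : (quad q₀ q₁).eval t ≠ 0)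
    (hqu : (quad q₀ q₁).eval u ≠ 0) :
    Cyc (alph b φ t u q₀ q₁ s x) (((X - C t) ^ k * (X - C u)) * quad q₀ q₁) := by
  set A := alph b φ t u q₀ q₁ s x with hA
  have hqm : (quad q₀ q₁).Monic := by unfold quad; monicity!
  have hqd : (quad q₀ q₁).natDegree = 2 := by unfold quad; compute_degree!
  have haev : ∀ c : K, aeval A (X - C c) = A - c • 1 := fun c => by
    simp [Algebra.algebraMap_eq_smul_one]
  have hev : ∀ c : K, (quad q₀ q₁).eval c = c * c + q₁ * c + q₀ := fun c => by simp [quad, pow_two]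
  -- the two functionals on the image under the quadratic
  have hc : ∀ y ∈ low b, b.repr (aeval A (quad q₀ q₁) y) ⟨k, by omega⟩ =
      (quad q₀ q₁).eval u * b.repr y ⟨k, by omega⟩ := by
    intro y hy
    rw [aeval_quad_apply, hev]
    simp only [map_add, map_smul, Finsupp.add_apply, Finsupp.smul_apply, hA,
      repr_alph_low (alph_mem_low hy), repr_alph_low hy, smul_eq_mul]
    ring
  have hd : k ≠ 0 → ∀ y ∈ low b, sec (b := b) (aeval A (quad q₀ q₁) y) =
      (u + t + q₁) * b.repr y ⟨k, by omega⟩ + (quad q₀ q₁).eval t * sec (b := b) y := by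
    intro hk y hy
    have e1 : sec (b := b) (aeval A (quad q₀ q₁) y) =
        sec (b := b) (A (A y)) + q₁ * sec (b := b) (A y) + q₀ * sec (b := b) y := by
      simp [aeval_quad_apply, sec]
    rw [e1, hev, hA, sec_alph_low hk (alph_mem_low hy), sec_alph_low hk hy, repr_alph_low hy]
    ring
  obtain ⟨z, hz1, hz2, hzk, hzd⟩ : ∃ z : V, b.repr z (Fin.last (k + 2)) = 0 ∧
      b.repr z ⟨k + 1, by omega⟩ = 1 ∧ b.repr (aeval A (quad q₀ q₁) z) ⟨k, by omega⟩ ≠ 0 ∧
      (k ≠ 0 → top₂ (b := b) t u (aeval A (quad q₀ q₁) z) ≠ 0) := by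
    classical
    set w := aeval A (quad q₀ q₁) (b ⟨k + 1, by omega⟩) with hw
    set α := (1 - b.repr w ⟨k, by omega⟩) / (quad q₀ q₁).eval u with hα
    set γ := if k = 0 ∨ t = u then 0 else
      ((1 - top₂ (b := b) t u w) / (quad q₀ q₁).eval t - α) / (t - u) with hγ
    set v := α • b ⟨k, by omega⟩ + γ • b ⟨k - 1, by omega⟩ with hv
    have hvlow : v ∈ low b := add_mem (Submodule.smul_mem _ _ (basis_mem_low b le_rfl))
      (Submodule.smul_mem _ _ (basis_mem_low b (by simp only; omega)))
    have hvk : b.repr v ⟨k, by omega⟩ = α := by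
      by_cases hk : k = 0
      · simp [hv, hγ, hk]
      · simp [hv, Finsupp.single_apply, Fin.ext_iff, show k ≠ k - 1 by omega, show k - 1 ≠ k by omega]
    have hck : b.repr (aeval A (quad q₀ q₁) (b ⟨k + 1, by omega⟩ + v)) ⟨k, by omega⟩ = 1 := by
      rw [map_add, map_add, Finsupp.add_apply, hc v hvlow, hvk, ← hw, hα, mul_div_cancel₀ _ hqu,
        add_sub_cancel]
    refine ⟨b ⟨k + 1, by omega⟩ + v, ?_, ?_, by rw [hck]; exact one_ne_zero, fun hk => ?_⟩
    · rw [map_add, Finsupp.add_apply, hvlow _ (by simp), add_zero]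
      simp [Fin.ext_iff]
    · rw [map_add, Finsupp.add_apply, hvlow _ (by simp), add_zero]
      simp
    by_cases htu : t = u
    · rw [top₂, htu, sub_self, zero_mul, add_zero, hck]
      exact one_ne_zero
    have hvs : sec (b := b) v = γ := by
      simp [sec, hv, Finsupp.single_apply, Fin.ext_iff, show k ≠ k - 1 by omega, show k - 1 ≠ k by omega]
    have hγ' : (quad q₀ q₁).eval t * (α + (t - u) * γ) = 1 - top₂ (b := b) t u w := by
      rw [hγ, if_neg (by simp [hk, htu]), mul_div_cancel₀ _ (sub_ne_zero.2 htu), add_sub_cancel,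
        mul_div_cancel₀ _ hqt]
    rw [top₂, hck, map_add, show sec (b := b) (w + aeval A (quad q₀ q₁) v) =
      sec (b := b) w + sec (b := b) (aeval A (quad q₀ q₁) v) by simp [sec], hd hk v hvlow, hvk, hvs]
    rw [top₂] at hγ'
    have hwk : b.repr w ⟨k, by omega⟩ = 1 - (quad q₀ q₁).eval u * α := by
      rw [hα, mul_div_cancel₀ _ hqu]; ring
    rw [hwk] at hγ'
    rw [hev] at hγ' ⊢
    rw [hev] at hγ'
    intro h0
    apply one_ne_zero (α := K)
    linear_combination h0 - hγ'
  have hu := quad_maps_low (φ := φ) (t := t) (u := u) (q₀ := q₀) (q₁ := q₁) (s := s) hx z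
  rw [← hA] at hu
  refine ⟨(((monic_X_sub_C t).pow _).mul (monic_X_sub_C u)).mul hqm, inferInstance, ?_, z,
    fun r => ⟨fun hr => ?_, ?_⟩⟩
  · rw [natDegree_mul (mul_ne_zero (pow_ne_zero _ (X_sub_C_ne_zero t)) (X_sub_C_ne_zero u))
      hqm.ne_zero, natDegree_mul (pow_ne_zero _ (X_sub_C_ne_zero t)) (X_sub_C_ne_zero u),
      natDegree_pow, natDegree_X_sub_C, natDegree_X_sub_C, hqd, finrank_eq_card_basis b,
      Fintype.card_fin]
    omega
  · obtain ⟨r', r0, rfl, hr0⟩ : ∃ r' r0 : K[X], r = quad q₀ q₁ * r' + r0 ∧ r0.natDegree ≤ 1 :=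
      ⟨r /ₘ quad q₀ q₁, r %ₘ quad q₀ q₁,
        (add_comm _ _).trans (modByMonic_add_div r (quad q₀ q₁)) |>.symm,
        by have := natDegree_modByMonic_lt r hqm (fun e => by simp [e] at hqd); omega⟩
    obtain ⟨c1, c0, rfl⟩ := exists_eq_X_add_C_of_natDegree_le_one hr0
    have hlowr : aeval A (quad q₀ q₁ * r') z ∈ low b := by
      rw [map_mul, Module.End.mul_apply]
      exact quad_maps_low hx _
    have hAz : b.repr (A z) (Fin.last (k + 2)) = 1 := by
      have hsum : A z = ∑ j, b.repr z j • A (b j) := by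
        simp only [← map_smul, ← map_sum, b.sum_repr]
      rw [hsum, map_sum, Finsupp.coe_finsetSum, Finset.sum_apply,
        Finset.sum_eq_single (⟨k + 1, by omega⟩ : Fin (k + 3))]
      · rw [hz2, one_smul, hA, alph_pen rfl]
        simp [Fin.ext_iff]
      · intro j _ hj
        by_cases hjk : (j : ℕ) ≤ k
        · rw [map_smul, Finsupp.smul_apply, alph_mem_low (basis_mem_low b hjk) _ (by simp), smul_zero]
        · rw [show j = Fin.last (k + 2) from Fin.ext (by
            have : (j : ℕ) ≠ k + 1 := fun e => hj (Fin.ext e)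
            simp only [Fin.val_last]; omega), hz1, zero_smul, map_zero, Finsupp.zero_apply]
      · simp
    simp only [map_add, map_mul, aeval_C, aeval_X, LinearMap.add_apply, Module.End.mul_apply,
      Module.algebraMap_end_apply] at hr hlowr
    have h2 := congrArg (fun y => b.repr y (Fin.last (k + 2))) hr
    simp only [map_add, map_smul, Finsupp.add_apply, Finsupp.smul_apply, hAz, hz1, smul_eq_mul,
      map_zero, Finsupp.zero_apply, hlowr _ (show k < ((Fin.last (k + 2) : Fin (k + 3)) : ℕ) by simp)]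
      at h2
    have hc1 : c1 = 0 := by linear_combination h2
    subst hc1
    have h3 := congrArg (fun y => b.repr y (⟨k + 1, by omega⟩ : Fin (k + 3))) hr
    simp only [map_add, map_smul, Finsupp.add_apply, Finsupp.smul_apply, hz2, smul_eq_mul,
      map_zero, Finsupp.zero_apply, hlowr _ (show k < ((⟨k + 1, by omega⟩ : Fin (k + 3)) : ℕ) by simp)]
      at h3
    have hc0 : c0 = 0 := by linear_combination h3
    subst hc0
    simp only [zero_smul, add_zero] at hr
    simp only [map_zero, zero_mul, add_zero]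
    rw [mul_comm]
    refine mul_dvd_mul_left _ ?_
    set w := aeval A (quad q₀ q₁) z
    have hru : aeval A r' w = 0 := by
      rw [← Module.End.mul_apply, ← map_mul, mul_comm, map_mul, Module.End.mul_apply]
      exact hr
    classical
    set P : K[X] := (X - C t) ^ k * (X - C u) with hP
    have hPu : aeval A P w = 0 := by
      rw [hP, map_mul, map_pow, haev, haev, Module.End.mul_apply]
      exact mul_sub_pow_low hu
    set g := EuclideanDomain.gcd r' P with hg
    have hgu : aeval A g w = 0 := by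
      rw [hg, EuclideanDomain.gcd_eq_gcd_ab, map_add, LinearMap.add_apply, mul_comm r',
        mul_comm P, map_mul, map_mul, Module.End.mul_apply, Module.End.mul_apply, hru, hPu,
        map_zero, map_zero, add_zero]
    obtain ⟨m, hm⟩ : g ∣ P := EuclideanDomain.gcd_dvd_right r' P
    by_cases hmu : IsUnit m
    · exact (hm ▸ hmu.mul_right_dvd.2 dvd_rfl : P ∣ g).trans (EuclideanDomain.gcd_dvd_left r' P)
    exfalso
    have hP0 : P ≠ 0 := mul_ne_zero (pow_ne_zero _ (X_sub_C_ne_zero t)) (X_sub_C_ne_zero u)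
    have hm0 : m ≠ 0 := fun e => hP0 (by rw [hm, e, mul_zero])
    obtain ⟨π, hπ, hπm⟩ := WfDvdMonoid.exists_irreducible_factor hmu hm0
    have hπP : π ∣ (X - C t) ^ k * (X - C u) := hπm.trans ⟨g, by rw [← hP, hm, mul_comm]⟩
    have hkill : ∀ Q : K[X], g ∣ Q → aeval A Q w = 0 := by
      rintro Q ⟨c, rfl⟩
      rw [mul_comm, map_mul, Module.End.mul_apply, hgu, map_zero]
    obtain ⟨h1, h2⟩ := sub_pow_ne_zero (φ := φ) (t := t) (u := u) (q₀ := q₀) (q₁ := q₁) (s := s)
      (x := x) hu hzk hzd
    have hgπ : π * g ∣ P := by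
      obtain ⟨c, hc⟩ := hπm
      exact ⟨c, by rw [hm, hc]; ring⟩
    rcases hπ.prime.dvd_or_dvd hπP with hd | hd
    · have hk : k ≠ 0 := fun e => by
        rw [e, pow_zero] at hd
        exact hπ.not_isUnit (isUnit_of_dvd_one hd)
      have hassoc := hπ.associated_of_dvd (irreducible_X_sub_C t) (hπ.prime.dvd_of_dvd_pow hd)
      refine h2 hk ?_
      have h4 := hkill ((X - C t) ^ (k - 1) * (X - C u)) ?_
      · rwa [map_mul, map_pow, haev, haev, Module.End.mul_apply] at h4
      refine (mul_dvd_mul_iff_left (X_sub_C_ne_zero t)).1 ?_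
      rw [← mul_assoc, ← pow_succ', Nat.sub_add_cancel (Nat.one_le_iff_ne_zero.2 hk)]
      exact (hassoc.symm.mul_right g).dvd.trans hgπ
    · have hassoc := hπ.associated_of_dvd (irreducible_X_sub_C u) hd
      refine h1 ?_
      have h4 := hkill ((X - C t) ^ k) ?_
      · rwa [map_pow, haev] at h4
      refine (mul_dvd_mul_iff_left (X_sub_C_ne_zero u)).1 ?_
      rw [mul_comm (X - C u) ((X - C t) ^ k)]
      exact (hassoc.symm.mul_right g).dvd.trans hgπ
  · rintro ⟨r', rfl⟩
    rw [mul_comm, map_mul, Module.End.mul_apply, map_mul, Module.End.mul_apply, map_mul, map_pow,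
      haev, haev, Module.End.mul_apply, mul_sub_pow_low hu, map_zero]

theorem comp_rows (hφ : ∀ i : Fin (k + 3), (h : (i : ℕ) < k + 2) → φ (b i) = b ⟨(i : ℕ) + 1, by omega⟩)
    (ht : t ≠ 0) (hu0 : u ≠ 0) (l : Fin (k + 3)) (hl : (l : ℕ) < k + 2) :
    (∀ j : Fin (k + 3), (l : ℕ) + 1 < j → b.repr (φ (alph b φ t u q₀ q₁ s x (b l))) j = 0) ∧
      b.repr (φ (alph b φ t u q₀ q₁ s x (b l))) ⟨(l : ℕ) + 1, by omega⟩ ≠ 0 := by
  have hne : (if (l : ℕ) = k then u else t) ≠ 0 := by split <;> assumption
  obtain ⟨c, hc⟩ : ∃ c, (if (l : ℕ) = k then u else t) = c := ⟨_, rfl⟩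
  rw [hc] at hne
  have single : ∀ (m : ℕ) (hm : m < k + 3) (j : Fin (k + 3)),
      b.repr (b ⟨m, hm⟩) j = if (j : ℕ) = m then 1 else 0 := fun m hm j => by
    rw [b.repr_self, Finsupp.single_apply]
    exact if_congr ⟨fun e => by rw [← e], fun e => Fin.ext e.symm⟩ rfl rfl
  by_cases h : (l : ℕ) ≤ k
  · rw [alph_low h, hc]
    by_cases h0 : (l : ℕ) = 0
    · simp only [dif_pos h0, add_zero, map_smul, hφ l hl, Finsupp.smul_apply, smul_eq_mul, single]
      exact ⟨fun j hj => by rw [if_neg (by omega), mul_zero], by simpa using hne⟩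
    · simp only [dif_neg h0, map_add, map_smul, hφ l hl,
        hφ ⟨(l : ℕ) - 1, by omega⟩ (by simp only; omega), Finsupp.add_apply, Finsupp.smul_apply,
        smul_eq_mul, single]
      refine ⟨fun j hj => by rw [if_neg (by omega), if_neg (by omega), mul_zero, add_zero], ?_⟩
      rw [if_true, if_neg (by omega), mul_one, add_zero]
      exact hne
  · have hl1 : (l : ℕ) = k + 1 := by omega
    rw [alph_pen hl1]
    simp only [map_add, map_smul, hφ l hl, hφ ⟨k, by omega⟩ (by simp), Finsupp.add_apply,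
      Finsupp.smul_apply, smul_eq_mul, single]
    refine ⟨fun j hj => absurd hj (by omega), ?_⟩
    have : b.repr (φ (b (Fin.last (k + 2)))) ⟨(l : ℕ) + 1, by omega⟩ = top b φ := by
      rw [show (⟨(l : ℕ) + 1, by omega⟩ : Fin (k + 3)) = Fin.last (k + 2) from
        Fin.ext (by simp only [Fin.val_last]; omega)]
      rfl
    rw [this, if_true, if_neg (by omega)]
    simp [a₁]

theorem pow_rows (hφ : ∀ i : Fin (k + 3), (h : (i : ℕ) < k + 2) → φ (b i) = b ⟨(i : ℕ) + 1, by omega⟩)
    (ht : t ≠ 0) (hu0 : u ≠ 0) (n : ℕ) (hn : n < k + 3) :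
    (∀ j : Fin (k + 3), n < j → b.repr (((φ * alph b φ t u q₀ q₁ s x) ^ n) (b 0)) j = 0) ∧
      b.repr (((φ * alph b φ t u q₀ q₁ s x) ^ n) (b 0)) ⟨n, hn⟩ ≠ 0 := by
  induction n with
  | zero =>
    refine ⟨fun j hj => ?_, by simp⟩
    rw [pow_zero, Module.End.one_apply, b.repr_self, Finsupp.single_apply, if_neg]
    exact fun e => by rw [← e] at hj; simp at hj
  | succ n ih =>
    obtain ⟨h1, h2⟩ := ih (by omega)
    set M := φ * alph b φ t u q₀ q₁ s x with hM
    set y := (M ^ n) (b 0)
    have hy : (M ^ (n + 1)) (b 0) = ∑ l, b.repr y l • φ (alph b φ t u q₀ q₁ s x (b l)) := by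
      rw [pow_succ', Module.End.mul_apply]
      simp only [hM, Module.End.mul_apply]
      simp only [← map_smul, ← map_sum, b.sum_repr]
      rfl
    rw [hy]
    refine ⟨fun j hj => ?_, ?_⟩
    · rw [map_sum, Finsupp.coe_finsetSum, Finset.sum_apply]
      refine Finset.sum_eq_zero fun l _ => ?_
      by_cases hl : n < (l : ℕ)
      · rw [h1 l hl, zero_smul, map_zero, Finsupp.zero_apply]
      · rw [map_smul, Finsupp.smul_apply, (comp_rows hφ ht hu0 l (by omega)).1 j (by omega), smul_zero]
    · rw [map_sum, Finsupp.coe_finsetSum, Finset.sum_apply,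
        Finset.sum_eq_single (⟨n, by omega⟩ : Fin (k + 3))]
      · rw [map_smul, Finsupp.smul_apply, smul_eq_mul]
        exact mul_ne_zero h2 (comp_rows hφ ht hu0 ⟨n, by omega⟩ (by simp only; omega)).2
      · intro l _ hl
        by_cases hl' : n < (l : ℕ)
        · rw [h1 l hl', zero_smul, map_zero, Finsupp.zero_apply]
        · have : (l : ℕ) ≠ n := fun e => hl (Fin.ext e)
          rw [map_smul, Finsupp.smul_apply, (comp_rows hφ ht hu0 l (by omega)).1 _ (by simp only; omega),
            smul_zero]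
      · simp

theorem indep_comp [FiniteDimensional K V]
    (hφ : ∀ i : Fin (k + 3), (h : (i : ℕ) < k + 2) → φ (b i) = b ⟨(i : ℕ) + 1, by omega⟩)
    (ht : t ≠ 0) (hu0 : u ≠ 0) (r : K[X]) (hr : r.natDegree < finrank K V)
    (h : aeval (φ * alph b φ t u q₀ q₁ s x) r (b 0) = 0) : r = 0 := by
  by_contra hne
  rw [finrank_eq_card_basis b, Fintype.card_fin] at hr
  rw [aeval_eq_sum_range, LinearMap.sum_apply] at h
  have h1 := congrArg (fun y => b.repr y (⟨r.natDegree, hr⟩ : Fin (k + 3))) h
  simp only [map_sum, map_zero, Finsupp.coe_finsetSum, Finset.sum_apply, Finsupp.zero_apply,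
    LinearMap.smul_apply, map_smul, Finsupp.smul_apply, smul_eq_mul] at h1
  rw [Finset.sum_range_succ, Finset.sum_eq_zero, zero_add, mul_eq_zero] at h1
  · exact h1.elim (fun e => hne (leadingCoeff_eq_zero.1 e)) (pow_rows hφ ht hu0 _ hr).2
  · intro i hi
    rw [Finset.mem_range] at hi
    rw [(pow_rows hφ ht hu0 i (by omega)).1 _ hi, mul_zero]

end Family

set_option maxHeartbeats 1000000 in
/-- The main lemma. -/
theorem exists_cyc_mul [FiniteDimensional K V] {φ : Module.End K V} {h : K[X]} (hφ : Cyc φ h)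
    {k : ℕ} (hk : finrank K V = k + 3) {t u q₀ q₁ : K} (ht : t ≠ 0) (hu0 : u ≠ 0)
    (hqt : (quad q₀ q₁).eval t ≠ 0) (hqu : (quad q₀ q₁).eval u ≠ 0) {p : K[X]} (hp : p.Monic)
    (hpd : p.natDegree = k + 3)
    (hp0 : p.coeff 0 = LinearMap.det φ * ((-t) ^ k * (-u) * q₀)) :
    ∃ α : Module.End K V, Cyc α ((X - C t) ^ k * (X - C u) * quad q₀ q₁) ∧ Cyc (φ * α) p := by
  obtain ⟨hh, -, hhd, v, hv⟩ := hφ
  have hsmall : ∀ r : K[X], r.natDegree < h.natDegree → aeval φ r v = 0 → r = 0 := by
    intro r hr e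
    by_contra h0
    exact absurd (natDegree_le_of_dvd ((hv r).1 e) h0) hr.not_ge
  have hbij := bijective_of hh hhd hsmall
  let e := LinearEquiv.ofBijective _ hbij
  have hhk : h.natDegree = k + 3 := hhd.trans hk
  let b : Basis (Fin (k + 3)) K V :=
    ((Basis.ofEquivFun (degreeLTEquiv K h.natDegree)).map e).reindex (finCongr hhk)
  have hb : ∀ i : Fin (k + 3), b i = (φ ^ (i : ℕ)) v := by
    intro i
    simp only [b, Basis.reindex_apply, Basis.map_apply, Basis.coe_ofEquivFun]
    show evalAt φ v _ = _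
    rw [evalAt_apply, Submodule.subtype_apply]
    have : ((((degreeLTEquiv K h.natDegree).symm (Pi.single ((finCongr hhk).symm i) 1)) :
        degreeLT K h.natDegree) : K[X]) = X ^ (i : ℕ) := by
      simp [degreeLTEquiv, Pi.single_apply, Polynomial.monomial_one_right_eq_X_pow, apply_ite,
        Finset.sum_ite_eq']
    rw [this, aeval_X_pow]
  have hφb : ∀ i : Fin (k + 3), (hi : (i : ℕ) < k + 2) → φ (b i) = b ⟨(i : ℕ) + 1, by omega⟩ := by
    intro i hi
    rw [hb, hb, ← Module.End.mul_apply, ← pow_succ']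
  -- the trace
  let T : K → K := fun s => LinearMap.trace K V (φ * alph b φ t u q₀ q₁ s 0)
  have hT : ∀ s, T s = T 0 + s := by
    intro s
    classical
    simp only [T]
    rw [LinearMap.trace_eq_matrix_trace K b, LinearMap.trace_eq_matrix_trace K b, Matrix.trace,
      Matrix.trace, ← sub_eq_iff_eq_add', ← Finset.sum_sub_distrib]
    rw [Finset.sum_eq_single (⟨k + 1, by omega⟩ : Fin (k + 3))]
    · simp only [Matrix.diag_apply, LinearMap.toMatrix_apply, Module.End.mul_apply]
      rw [alph_pen rfl, alph_pen rfl]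
      simp [hφb ⟨k, by omega⟩ (by simp)]
    · intro j _ hj
      simp only [Matrix.diag_apply, LinearMap.toMatrix_apply, Module.End.mul_apply]
      have : (j : ℕ) ≠ k + 1 := fun e => hj (Fin.ext e)
      by_cases hjk : (j : ℕ) ≤ k
      · rw [alph_low hjk, alph_low hjk, sub_self]
      · rw [show j = Fin.last (k + 2) from Fin.ext (by simp only [Fin.val_last]; omega), alph_last,
          alph_last, sub_self]
    · simp
  let s : K := -p.nextCoeff - T 0
  set M₀ := φ * alph b φ t u q₀ q₁ s 0 with hM₀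
  have h0low : (0 : V) ∈ low b := zero_mem _
  have hdetα : ∀ x ∈ low b, LinearMap.det (φ * alph b φ t u q₀ q₁ s x) = (-1) ^ (k + 3) * p.coeff 0 := by
    intro x hx
    have hqm : (quad q₀ q₁).Monic := by unfold quad; monicity!
    have hqd : (quad q₀ q₁).natDegree = 2 := by unfold quad; compute_degree!
    have hq0 : (quad q₀ q₁).coeff 0 = q₀ := by simp [quad]
    rw [map_mul, (cyc_alph hx hqt hqu).det_eq,
      natDegree_mul (mul_ne_zero (pow_ne_zero _ (X_sub_C_ne_zero t)) (X_sub_C_ne_zero u)) hqm.ne_zero,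
      natDegree_mul (pow_ne_zero _ (X_sub_C_ne_zero t)) (X_sub_C_ne_zero u), natDegree_pow,
      natDegree_X_sub_C, natDegree_X_sub_C, hqd, mul_coeff_zero, mul_coeff_zero,
      coeff_zero_eq_eval_zero ((X - C t) ^ k), coeff_sub, coeff_X_zero, coeff_C_zero, hq0, hp0]
    simp only [eval_pow, eval_sub, eval_X, eval_C, zero_sub, mul_one]
    ring
  have hcyc0 : Cyc M₀ M₀.charpoly := cyc_charpoly M₀ (indep_comp hφb ht hu0)
  set D := p - M₀.charpoly with hD
  have hD0 : D.coeff 0 = 0 := by
    have h1 := hdetα 0 h0low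
    rw [hcyc0.det_eq, LinearMap.charpoly_natDegree, hk] at h1
    rw [hD, coeff_sub, sub_eq_zero]
    exact (mul_left_cancel₀ (pow_ne_zero _ (neg_ne_zero.2 one_ne_zero)) h1).symm
  have hDdeg : ∀ n, k + 2 ≤ n → D.coeff n = 0 := by
    intro n hn
    rw [hD, coeff_sub]
    rcases eq_or_lt_of_le hn with rfl | hlt
    · have h2 := trace_eq_neg_nextCoeff M₀
      rw [show LinearMap.trace K V M₀ = -p.nextCoeff by
        rw [hM₀, show LinearMap.trace K V (φ * alph b φ t u q₀ q₁ s 0) = T s from rfl, hT]; ring] at h2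
      rw [nextCoeff_of_natDegree_pos (by omega), nextCoeff_of_natDegree_pos
        (by rw [LinearMap.charpoly_natDegree, hk]; omega), hpd, LinearMap.charpoly_natDegree, hk,
        neg_inj] at h2
      simpa [sub_eq_zero] using h2
    · rcases eq_or_lt_of_le (show k + 3 ≤ n by omega) with rfl | hlt'
      · have h3 := hp.coeff_natDegree
        have h4 := M₀.charpoly_monic.coeff_natDegree
        rw [hpd] at h3
        rw [LinearMap.charpoly_natDegree, hk] at h4
        rw [h3, h4, sub_self]
      · rw [coeff_eq_zero_of_natDegree_lt (by omega),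
          coeff_eq_zero_of_natDegree_lt (by rw [LinearMap.charpoly_natDegree, hk]; omega), sub_self]
  obtain ⟨D', hD'⟩ : X ∣ D := X_dvd_iff.2 hD0
  have hD'deg : ∀ n, k + 1 ≤ n → D'.coeff n = 0 := fun n hn => by
    have := hDdeg (n + 1) (by omega)
    rwa [hD', coeff_X_mul] at this
  -- the residue lies in the image of the low part
  set y := aeval M₀ D' (b 0) with hy
  have hylow : y ∈ low b := by
    rw [hy, aeval_eq_sum_range' (n := k + 1 + D'.natDegree + 1) (by omega), LinearMap.sum_apply]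
    refine Submodule.sum_mem _ fun i _ => ?_
    rw [LinearMap.smul_apply]
    by_cases hi : i ≤ k
    · refine Submodule.smul_mem _ _ fun j hj => (pow_rows hφb ht hu0 i (by omega)).1 j (by omega)
    · rw [hD'deg i (by omega), zero_smul]; exact zero_mem _
  set z := alph b φ t u q₀ q₁ s 0 y with hz
  have hR : aeval M₀ p (b 0) = φ z := by
    rw [show p = X * D' + M₀.charpoly by rw [← hD', hD, sub_add_cancel], map_add,
      LinearMap.aeval_self_charpoly, add_zero, map_mul, aeval_X, Module.End.mul_apply, ← hy, hM₀,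
      Module.End.mul_apply]
  set c := b.repr ((M₀ ^ (k + 2)) (b 0)) (Fin.last (k + 2)) with hc
  have hc0 : c ≠ 0 := (pow_rows hφb ht hu0 (k + 2) (by omega)).2
  set x := (-c⁻¹) • z with hx
  have hxlow : x ∈ low b := Submodule.smul_mem _ _ (alph_mem_low hylow)
  set M := φ * alph b φ t u q₀ q₁ s x with hM
  have hcyc : Cyc M M.charpoly := cyc_charpoly M (indep_comp hφb ht hu0)
  have hMy : ∀ y : V, M y = M₀ y + b.repr y (Fin.last (k + 2)) • φ x := by
    intro y
    have hA : alph b φ t u q₀ q₁ s x y = alph b φ t u q₀ q₁ s 0 y + b.repr y (Fin.last (k + 2)) • x := by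
      rw [← sub_eq_iff_eq_add']
      conv_lhs => rw [eq_sum b y]
      rw [map_sum, map_sum, ← Finset.sum_sub_distrib,
        Finset.sum_eq_single (Fin.last (k + 2))]
      · rw [map_smul, map_smul, alph_last, alph_last, ← smul_sub, add_sub_add_left_eq_sub, sub_zero]
      · intro j _ hj
        rw [map_smul, map_smul, ← smul_sub]
        by_cases hjk : (j : ℕ) ≤ k
        · rw [alph_low hjk, alph_low hjk, sub_self, smul_zero]
        · have hj1 : (j : ℕ) = k + 1 := by
            have : (j : ℕ) ≠ k + 2 := fun e => hj (Fin.ext e)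
            omega
          rw [alph_pen hj1, alph_pen hj1, sub_self, smul_zero]
      · simp
    rw [hM, hM₀, Module.End.mul_apply, Module.End.mul_apply, hA, map_add, map_smul]
  have hsame : ∀ n < k + 3, (M ^ n) (b 0) = (M₀ ^ n) (b 0) := by
    intro n hn
    induction n with
    | zero => rfl
    | succ n ih =>
      rw [pow_succ', pow_succ', Module.End.mul_apply M, Module.End.mul_apply M₀, ih (by omega), hMy,
        (pow_rows hφb ht hu0 n (by omega)).1 (Fin.last (k + 2)) (by simp only [Fin.val_last]; omega),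
        zero_smul, add_zero]
  have htop : (M ^ (k + 3)) (b 0) = (M₀ ^ (k + 3)) (b 0) + c • φ x := by
    rw [pow_succ' M (k + 2), pow_succ' M₀ (k + 2), Module.End.mul_apply M, Module.End.mul_apply M₀, hsame _ (by omega), hMy]
  have hMp : aeval M p (b 0) = 0 := by
    have hsum : aeval M p (b 0) = aeval M₀ p (b 0) + c • φ x := by
      rw [aeval_eq_sum_range, aeval_eq_sum_range, hpd, LinearMap.sum_apply, LinearMap.sum_apply,
        Finset.sum_range_succ, Finset.sum_range_succ _ (k + 3), LinearMap.smul_apply,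
        LinearMap.smul_apply, htop, show p.coeff (k + 3) = 1 by rw [← hpd]; exact hp.coeff_natDegree,
        one_smul, one_smul, ← add_assoc]
      congr 2
      exact Finset.sum_congr rfl fun i hi => by
        rw [LinearMap.smul_apply, LinearMap.smul_apply, hsame i (Finset.mem_range.1 hi)]
    rw [hsum, hR, hx, map_smul, smul_smul, mul_neg, mul_inv_cancel₀ hc0, neg_one_smul, add_neg_cancel]
  have hdvd : M.charpoly ∣ p := by
    rw [← modByMonic_eq_zero_iff_dvd M.charpoly_monic]
    refine indep_comp hφb ht hu0 _ ?_ (by rw [← LinearMap.aeval_eq_aeval_mod_charpoly, hMp])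
    rw [← M.charpoly_natDegree]
    refine natDegree_modByMonic_lt p M.charpoly_monic fun e => ?_
    have := M.charpoly_natDegree
    rw [e, natDegree_one, hk] at this
    omega
  have heq : p = M.charpoly := eq_of_monic_of_dvd_of_natDegree_le M.charpoly_monic hp hdvd
    (by rw [LinearMap.charpoly_natDegree, hk, hpd])
  exact ⟨_, cyc_alph hxlow hqt hqu, heq ▸ hcyc⟩

end CfsgLib.Classical.SmallFieldComm
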