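import Cfsg.Agent.Lib.Classical.SmallFieldComm.Basic

/-!
# Centralisers with every determinant, scalars, and passing to the group
-/

set_option autoImplicit false

universe u

namespace CfsgLib.Classical.SmallFieldComm

open Polynomial Module

variable {K : Type u} [Field K] {V W : Type u} [AddCommGroup V] [Module K V] [AddCommGroup W]
  [Module K W]

theorem HasFix.conj {α : Module.End K V} {β : Module.End K W} (h : HasFix α) (E : V ≃ₗ[K] W)
    (hE : ∀ x, E (α x) = β (E x)) : HasFix β := by
  intro μ hμ
  obtain ⟨c, hc, hcd⟩ := h μ hμ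
  refine ⟨(E.toLinearMap ∘ₗ c) ∘ₗ E.symm.toLinearMap, ?_,
    by rw [LinearMap.comp_assoc, LinearMap.det_conj, hcd]⟩
  refine LinearMap.ext fun y => ?_
  obtain ⟨x, rfl⟩ := E.surjective y
  simp only [Module.End.mul_apply, LinearMap.comp_apply, LinearEquiv.coe_coe, E.symm_apply_apply,
    ← hE]
  exact congrArg E (LinearMap.congr_fun hc x)

/-- A cyclic endomorphism with coprime factors splits. -/
theorem Cyc.exists_split {α : Module.End K V} {p q : K[X]} (hp : p.Monic) (hq : q.Monic)
    (hpq : IsCoprime p q) (h : Cyc α (p * q)) :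
    ∃ E : (AdjoinRoot p × AdjoinRoot q) ≃ₗ[K] V, ∀ x, E ((model p).prodMap (model q) x) = α (E x) :=
  ((cyc_model hp).prod (cyc_model hq) hpq).exists_equiv h

theorem hasFix_of_factor {α : Module.End K V} {p q : K[X]} (hp : p.Monic) (hq : q.Monic)
    (hpq : IsCoprime p q) (h : Cyc α (p * q)) (hfix : HasFix (model p)) : HasFix α := by
  have := (AdjoinRoot.powerBasis hp.ne_zero).finite
  have := (AdjoinRoot.powerBasis hq.ne_zero).finite
  obtain ⟨E, hE⟩ := h.exists_split hp hq hpq
  exact (hfix.prod_left _).conj E hE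

theorem hasFix_model_linear (d : K) : HasFix (model (X - C d)) := by
  intro μ _
  refine ⟨μ • 1, by rw [smul_mul_assoc, one_mul, mul_smul_comm, mul_one], ?_⟩
  rw [LinearMap.det_smul, LinearMap.det.map_one, mul_one,
    (AdjoinRoot.powerBasis (X_sub_C_ne_zero d)).finrank, AdjoinRoot.powerBasis_dim,
    natDegree_X_sub_C, pow_one]

theorem hasFix_model_irreducible [Finite K] {p : K[X]} (hp : Irreducible p) : HasFix (model p) := by
  have := Fact.mk hp
  have := (AdjoinRoot.powerBasis hp.ne_zero).finite
  have : Finite (AdjoinRoot p) := Module.finite_of_finite K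
  intro μ _
  obtain ⟨x, hx⟩ := FiniteField.norm_surjective K (AdjoinRoot p) μ
  exact ⟨Algebra.lmul K _ x, by rw [model, ← map_mul, mul_comm, map_mul],
    by rw [← hx, Algebra.norm_apply]⟩

theorem hasFix_of_simple_root [FiniteDimensional K V] {α : Module.End K V} {p : K[X]} {d : K}
    (hp : p.Monic) (hd : p.eval d ≠ 0) (h : Cyc α ((X - C d) * p)) : HasFix α :=
  hasFix_of_factor (monic_X_sub_C d) hp
    ((irreducible_X_sub_C d).coprime_iff_not_dvd.2 fun hdvd => hd (dvd_iff_isRoot.1 hdvd)) h
    (hasFix_model_linear d)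

theorem isComm_of_subsingleton [Subsingleton V] (φ : Module.End K V) : IsComm φ 1 := by
  refine ⟨1, 1, map_one _, map_one _, ?_⟩
  exact LinearMap.ext fun x => Subsingleton.elim _ _

theorem isComm_one : IsComm (1 : Module.End K V) 1 :=
  ⟨1, 1, map_one _, map_one _, rfl⟩

/-- A scalar is a commutator. -/
theorem isComm_scalar [Finite K] {ω : K} (m : ℕ) (hω : ω ≠ 0) :
    ∀ (V : Type u) [AddCommGroup V] [Module K V] [FiniteDimensional K V],
      finrank K V = m * orderOf ω → IsComm (ω • (1 : Module.End K V)) 1 := by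
  have hord : 0 < orderOf ω := by
    rw [← Units.val_mk0 hω, orderOf_units]
    exact orderOf_pos _
  induction m with
  | zero =>
    intro V _ _ _ h
    have : Subsingleton V := finrank_zero_iff.1 (by simpa using h)
    exact isComm_of_subsingleton _
  | succ m ih =>
    intro V _ _ _ h
    set k := orderOf ω with hk
    have hkK : (k : K) ≠ 0 := by
      intro hz
      obtain ⟨ℓ, _⟩ := CharP.exists K
      have hℓ0 : ℓ ≠ 0 := CharP.char_ne_zero_of_finite K ℓ
      have : Fact ℓ.Prime := ⟨(CharP.char_is_prime_or_zero K ℓ).resolve_right hℓ0⟩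
      obtain ⟨j, hj⟩ := (CharP.cast_eq_zero_iff K ℓ k).1 hz
      have h1 : (ω ^ j) ^ ℓ = 1 ^ ℓ := by
        rw [← pow_mul, mul_comm, ← hj, one_pow, hk]
        exact pow_orderOf_eq_one ω
      have h2 : ω ^ j = 1 := frobenius_inj K ℓ h1
      have hjk : j < k := by
        rw [hj]
        exact lt_mul_of_one_lt_left
          (Nat.pos_of_ne_zero fun e => by rw [e, mul_zero] at hj; omega) (Fact.out : ℓ.Prime).one_lt
      have hj0 : 0 < j := Nat.pos_of_ne_zero fun e => by rw [e, mul_zero] at hj; omega
      exact pow_ne_one_of_lt_orderOf hj0.ne' hjk h2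
    set p : K[X] := X ^ k - C ((-1) ^ (k + 1)) with hp
    have hpm : p.Monic := monic_X_pow_sub_C _ hord.ne'
    have hpd : p.natDegree = k := natDegree_X_pow_sub_C
    have := (AdjoinRoot.powerBasis hpm.ne_zero).finite
    have hcyc : Cyc (model p) p := cyc_model hpm
    have hdet : LinearMap.det (model p) = 1 := by
      rw [hcyc.det_eq, hpd, hp, coeff_sub, coeff_X_pow, if_neg hord.ne, coeff_C_zero, zero_sub,
        pow_succ]
      have e : (-1 : K) ^ k * (-1) ^ k = 1 := by rw [← mul_pow, neg_mul_neg, one_mul, one_pow]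
      linear_combination e
    have hfix : HasFix (model p) := by
      obtain ⟨π, hπm, hπi, r, hr⟩ := exists_monic_irreducible_factor p
        (fun hu => by simpa [hpd, hord.ne'] using natDegree_eq_zero_of_isUnit hu)
      have hrm : r.Monic := hπm.of_mul_monic_left (hr ▸ hpm)
      have hsep : (π * r).Separable := hr ▸ separable_X_pow_sub_C _ hkK (by simp)
      exact hasFix_of_factor hπm hrm hsep.isCoprime (hr ▸ hcyc) (hasFix_model_irreducible hπi)
    have hscal : Cyc (ω • model p) p := by
      obtain ⟨-, hfd, hd, v, hv⟩ := hcyc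
      refine ⟨hpm, hfd, hd, v, fun r => ?_⟩
      have hcomp : ∀ (c : K), c ^ k = 1 → ∀ r : K[X], p ∣ r → p ∣ r.comp (C c * X) := by
        rintro c hc r ⟨s, rfl⟩
        rw [mul_comp, hp, sub_comp, pow_comp, X_comp, C_comp, mul_pow, ← C_pow, hc, C_1, one_mul]
        exact dvd_mul_right _ _
      have hinv : ω⁻¹ ^ k = 1 := by rw [inv_pow, hk, pow_orderOf_eq_one, inv_one]
      have e : aeval (ω • model p) r = aeval (model p) (r.comp (C ω * X)) := by
        rw [aeval_comp, map_mul, aeval_C, aeval_X, ← Algebra.smul_def]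
      rw [e, hv]
      refine ⟨fun h => ?_, hcomp ω (pow_orderOf_eq_one ω) r⟩
      have := hcomp _ hinv _ h
      rwa [comp_assoc, mul_comp, C_comp, X_comp, ← mul_assoc, ← C_mul, mul_inv_cancel₀ hω, C_1,
        one_mul, comp_X] at this
    have hblock : IsComm (ω • (1 : Module.End K (AdjoinRoot p))) 1 := by
      obtain ⟨E, hE⟩ := hscal.exists_equiv hcyc
      exact isComm_of_equiv _ hdet hfix E fun x => by
        rw [LinearMap.smul_apply, Module.End.one_apply, ← hE]
        rfl
    have hrest := ih (Fin (m * k) → K) (by rw [finrank_pi, Fintype.card_fin])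
    have e : finrank K (AdjoinRoot p × (Fin (m * k) → K)) = finrank K V := by
      rw [h, finrank_prod, (AdjoinRoot.powerBasis hpm.ne_zero).finrank, AdjoinRoot.powerBasis_dim,
        hpd, finrank_pi, Fintype.card_fin]
      ring
    have h2 := hblock.prod hrest
    rw [mul_one] at h2
    exact h2.conj (LinearEquiv.ofFinrankEq _ _ e) fun x => by
      simp [LinearMap.prodMap_apply, ← Prod.smul_mk]

end CfsgLib.Classical.SmallFieldComm
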