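import Cfsg.Agent.Lib.Classical.SmallFieldComm.Fix

/-!
# Gluing commutators along an extension
-/

set_option autoImplicit false

universe u

namespace CfsgLib.Classical.SmallFieldComm

open Polynomial Module

variable {K : Type u} [Field K] {V U Z : Type u} [AddCommGroup V] [Module K V] [AddCommGroup U]
  [Module K U] [AddCommGroup Z] [Module K Z]

theorem exists_sylvester [FiniteDimensional K U] [FiniteDimensional K Z] {a : Module.End K U}
    {c : Module.End K Z} {p₁ p₂ : K[X]} (h1 : aeval a p₁ = 0) (h2 : aeval c p₂ = 0)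
    (hp : IsCoprime p₁ p₂) (R : Z →ₗ[K] U) : ∃ y : Z →ₗ[K] U, a ∘ₗ y - y ∘ₗ c = R := by
  let L : (Z →ₗ[K] U) →ₗ[K] (Z →ₗ[K] U) :=
    { toFun := fun y => a ∘ₗ y - y ∘ₗ c
      map_add' := fun y y' => by ext; simp; abel
      map_smul' := fun t y => by ext; simp [smul_sub] }
  have hinj : Function.Injective L := by
    refine (injective_iff_map_eq_zero L).2 fun y hy => LinearMap.ext fun z => ?_
    have hy' : ∀ z, a (y z) = y (c z) := fun z =>
      sub_eq_zero.1 (LinearMap.congr_fun hy z)
    have hr : ∀ (r : K[X]) (z : Z), aeval a r (y z) = y (aeval c r z) := by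
      intro r
      induction r using Polynomial.induction_on' with
      | add r s hr hs => intro z; simp [hr, hs]
      | monomial n t =>
        have hpow : ∀ (n : ℕ) (z : Z), (a ^ n) (y z) = y ((c ^ n) z) := by
          intro n
          induction n with
          | zero => intro z; simp
          | succ n ih =>
            intro z
            rw [pow_succ, pow_succ, Module.End.mul_apply, Module.End.mul_apply, hy', ih]
        intro z
        simp [aeval_monomial, hpow]
    obtain ⟨s, t, hst⟩ := hp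
    have e1 : aeval a (s * p₁) (y z) = 0 := by
      rw [map_mul, h1, mul_zero, LinearMap.zero_apply]
    have e2 : aeval c (t * p₂) z = 0 := by rw [map_mul, h2, mul_zero, LinearMap.zero_apply]
    calc y z = aeval a (s * p₁ + t * p₂) (y z) := by rw [hst, map_one, Module.End.one_apply]
      _ = 0 := by rw [map_add, LinearMap.add_apply, e1, hr, e2, map_zero, add_zero]
  exact LinearMap.injective_iff_surjective.1 hinj R

theorem det_triangular [FiniteDimensional K U] [FiniteDimensional K Z] (a : Module.End K U)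
    (y : Z →ₗ[K] U) (c : Module.End K Z) :
    LinearMap.det ((a ∘ₗ LinearMap.fst K U Z + y ∘ₗ LinearMap.snd K U Z).prod
      (c ∘ₗ LinearMap.snd K U Z) : Module.End K (U × Z)) = LinearMap.det a * LinearMap.det c := by
  classical
  let b := Module.finBasis K U
  let b' := Module.finBasis K Z
  rw [← LinearMap.det_toMatrix (b.prod b'), ← LinearMap.det_toMatrix b, ← LinearMap.det_toMatrix b']
  rw [show LinearMap.toMatrix (b.prod b') (b.prod b')
      ((a ∘ₗ LinearMap.fst K U Z + y ∘ₗ LinearMap.snd K U Z).prod (c ∘ₗ LinearMap.snd K U Z)) =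
      Matrix.fromBlocks (LinearMap.toMatrix b b a) (LinearMap.toMatrix b' b y) 0
        (LinearMap.toMatrix b' b' c) by
    ext (i | i) (j | j) <;> simp [LinearMap.toMatrix_apply]]
  rw [Matrix.det_fromBlocks_zero₂₁]

/-- An extension of commutators with coprime first factors is a commutator. -/
theorem isComm_extension [FiniteDimensional K V] [FiniteDimensional K U] [FiniteDimensional K Z]
    {φ : Module.End K V} {S₁ : Module.End K U} {S₂ : Module.End K Z} (ι : U →ₗ[K] V) (π : V →ₗ[K] Z)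
    (hι : Function.Injective ι) (hπ : Function.Surjective π)
    (hexact : Function.Exact ι π) (h1 : ∀ x, φ (ι x) = ι (S₁ x)) (h2 : ∀ x, π (φ x) = S₂ (π x))
    {α₁ b₁ : Module.End K U} {α₂ b₂ : Module.End K Z} {e₁ e₂ : K} {p₁ p₂ : K[X]}
    (hα₁ : LinearMap.det α₁ = e₁) (hα₂ : LinearMap.det α₂ = e₂) (hb₁ : LinearMap.det b₁ = 1)
    (hb₂ : LinearMap.det b₂ = 1) (hab₁ : α₁ * b₁ = b₁ * (S₁ * α₁))
    (hab₂ : α₂ * b₂ = b₂ * (S₂ * α₂)) (hp₁ : aeval α₁ p₁ = 0) (hp₂ : aeval (S₂ * α₂) p₂ = 0)
    (hp : IsCoprime p₁ p₂) : IsComm φ (e₁ * e₂) := by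
  obtain ⟨σ, hσ⟩ := LinearMap.exists_rightInverse_of_surjective π (LinearMap.range_eq_top.2 hπ)
  obtain ⟨ι', hι'⟩ := LinearMap.exists_leftInverse_of_injective ι (LinearMap.ker_eq_bot.2 hι)
  have hσ' : ∀ z, π (σ z) = z := fun z => LinearMap.congr_fun hσ z
  have hι0 : ∀ x, ι' (ι x) = x := fun x => LinearMap.congr_fun hι' x
  have hπι : ∀ x, π (ι x) = 0 := fun x => hexact.apply_apply_eq_zero x
  let Y : Z →ₗ[K] U := ι' ∘ₗ (φ ∘ₗ σ - σ ∘ₗ S₂)
  have hY : ∀ z, ι (Y z) = φ (σ z) - σ (S₂ z) := by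
    intro z
    obtain ⟨w, hw⟩ := (hexact (φ (σ z) - σ (S₂ z))).1 (by rw [map_sub, h2, hσ', hσ', sub_self])
    show ι (ι' (φ (σ z) - σ (S₂ z))) = _
    rw [← hw, hι0]
  let F : (U × Z) →ₗ[K] V := ι.coprod σ
  have hbij : Function.Bijective F := by
    constructor
    · refine (injective_iff_map_eq_zero F).2 fun x hx => ?_
      have hx2 : x.2 = 0 := by
        have := congrArg π hx
        simpa [F, hπι, hσ'] using this
      refine Prod.ext (hι ?_) hx2
      simpa [F, hx2] using hx
    · intro v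
      obtain ⟨w, hw⟩ := (hexact (v - σ (π v))).1 (by rw [map_sub, hσ', sub_self])
      exact ⟨(w, π v), by simp [F, hw]⟩
  obtain ⟨y, hy⟩ := exists_sylvester hp₁ hp₂ hp (b₁ ∘ₗ Y ∘ₗ α₂)
  let ψ : Module.End K (U × Z) :=
    (S₁ ∘ₗ LinearMap.fst K U Z + Y ∘ₗ LinearMap.snd K U Z).prod (S₂ ∘ₗ LinearMap.snd K U Z)
  have hψ : IsComm ψ (e₁ * e₂) := by
    refine ⟨α₁.prodMap α₂, (b₁ ∘ₗ LinearMap.fst K U Z + y ∘ₗ LinearMap.snd K U Z).prod
      (b₂ ∘ₗ LinearMap.snd K U Z), by rw [LinearMap.det_prodMap, hα₁, hα₂],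
      by rw [det_triangular, hb₁, hb₂, mul_one], LinearMap.ext fun x => ?_⟩
    have e1 := LinearMap.congr_fun hab₁ x.1
    have e2 := LinearMap.congr_fun hab₂ x.2
    have e3 := LinearMap.congr_fun hy x.2
    simp only [Module.End.mul_apply, LinearMap.sub_apply, LinearMap.comp_apply] at e1 e2 e3
    simp only [Module.End.mul_apply, ψ, LinearMap.prod_apply, Function.prod_apply, LinearMap.add_apply,
      LinearMap.comp_apply, LinearMap.fst_apply, LinearMap.snd_apply, LinearMap.prodMap_apply]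
    refine Prod.ext ?_ e2
    simp only [map_add, e1, sub_eq_iff_eq_add.1 e3]
    abel
  refine hψ.conj (LinearEquiv.ofBijective F hbij) fun x => ?_
  show F (ψ x) = φ (F x)
  simp only [F, ψ, LinearMap.coprod_apply, LinearMap.prod_apply, Function.prod_apply, LinearMap.add_apply,
    LinearMap.comp_apply, LinearMap.fst_apply, LinearMap.snd_apply, map_add, h1, hY]
  abel

end CfsgLib.Classical.SmallFieldComm
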