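import Cfsg.Agent.Lib.Classical.SmallFieldComm.Fix

/-!
# From endomorphisms to elements of the special linear group
-/

set_option autoImplicit false

universe u

namespace CfsgLib.Classical.SmallFieldComm

open Polynomial Module Matrix

variable {K : Type u} [Field K] {n : ℕ}

theorem isComm_toLin' {G α b : Matrix (Fin n) (Fin n) K} {e : K} (hα : α.det = e) (hb : b.det = 1)
    (h : α * b = b * (G * α)) : IsComm (Matrix.toLin' G) e := by
  refine ⟨Matrix.toLin' α, Matrix.toLin' b, by rw [LinearMap.det_toLin', hα],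
    by rw [LinearMap.det_toLin', hb], ?_⟩
  have := congrArg Matrix.toLin' h
  simpa only [Matrix.toLin'_mul, Module.End.mul_eq_comp] using this

/-- Changing the basis. -/
theorem isComm_of_sim {G M Q : Matrix (Fin n) (Fin n) K} {e : K} (hQ : Q.det ≠ 0)
    (h : G * Q = Q * M) (hM : IsComm (Matrix.toLin' M) e) : IsComm (Matrix.toLin' G) e := by
  have hu := isUnit_iff_ne_zero.2 hQ
  refine hM.conj (Matrix.toLinearEquiv' Q (Matrix.invertibleOfIsUnitDet Q hu)) fun x => ?_
  show Q *ᵥ (M *ᵥ x) = G *ᵥ (Q *ᵥ x)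
  rw [mulVec_mulVec, mulVec_mulVec, h]

theorem exists_of_isComm (g : Matrix.SpecialLinearGroup (Fin n) K)
    (h : IsComm (Matrix.toLin' g.1) 1) :
    ∃ a b : Matrix.SpecialLinearGroup (Fin n) K, g = a * b * a⁻¹ * b⁻¹ := by
  obtain ⟨α, b, hα, hb, hab⟩ := h
  obtain ⟨A, rfl⟩ := Matrix.toLin'.surjective α
  obtain ⟨B, rfl⟩ := Matrix.toLin'.surjective b
  rw [LinearMap.det_toLin'] at hα hb
  have hAB : A * B = B * (g.1 * A) := by
    apply Matrix.toLin'.injective
    simpa only [Matrix.toLin'_mul, Module.End.mul_eq_comp] using hab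
  let a' : Matrix.SpecialLinearGroup (Fin n) K := ⟨A, hα⟩
  let b' : Matrix.SpecialLinearGroup (Fin n) K := ⟨B, hb⟩
  have h1 : a' * b' = b' * (g * a') := Subtype.ext hAB
  refine ⟨b'⁻¹, a', ?_⟩
  rw [inv_inv, mul_assoc b'⁻¹, h1]
  group

end CfsgLib.Classical.SmallFieldComm
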