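import Cfsg.Agent.Lib.Classical.SmallFieldComm.Triangular
import Cfsg.Agent.Lib.Classical.RegularUnipotentProduct.Factor
import Cfsg.Agent.Lib.Classical.Sourour.Conj

/-!
# Every element of `SL_n(q)` is a commutator for `q ≥ 4`
-/

set_option autoImplicit false

universe u

namespace CfsgLib.Classical.SmallFieldComm

open Polynomial Module Matrix CfsgLib.Classical.Sourour CfsgLib.Classical.RegularUnipotentProduct

variable {K : Type u} [Field K]

theorem exists_sq_ne_one (h4 : Four K) : ∃ d : K, d ≠ 0 ∧ d ≠ 1 ∧ d ≠ -1 ∧ d ≠ d⁻¹ ∧ d⁻¹ ≠ 1 := by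
  obtain ⟨d, h0, h1, h2⟩ := h4.fresh 0 1 (-1)
  refine ⟨d, h0, h1, h2, fun h => ?_, fun h => h1 (inv_eq_one.1 h)⟩
  have : d * d = 1 := by
    nth_rw 2 [h]
    exact mul_inv_cancel₀ h0
  rcases mul_self_eq_one_iff.1 this with h | h
  · exact h1 h
  · exact h2 h

theorem isComm_wide (h4 : Four K) {m : ℕ} {S : Matrix (Fin (m + 3)) (Fin (m + 3)) K}
    (hdet : S.det = 1) (hS : Wide S) : IsComm (Matrix.toLin' S) 1 := by
  obtain ⟨d, hd0, hd1, -, hdd, hd1'⟩ := exists_sq_ne_one h4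
  have hsne : (Pi.single 0 1 : Fin (m + 3) → K) ≠ 0 := fun h => by simpa using congrFun h 0
  obtain ⟨Q, L, U, hQ, hSQ, hL, hU, -, -⟩ := factor h4 (m + 2) S hdet (fun _ => hS) _ _ hsne hsne
  refine isComm_of_sim hQ hSQ ?_
  set δ : Fin (m + 3) → K := Fin.cons d (Fin.cons d⁻¹ 1) with hδ
  have hUi := upReg_inv hU
  set p := (Matrix.toLin' (std m K)).charpoly
  set α : Matrix (Fin (m + 3)) (Fin (m + 3)) K := U⁻¹ * diagonal δ with hα
  set β : Matrix (Fin (m + 3)) (Fin (m + 3)) K := L * diagonal δ with hβ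
  have hpd : ∀ c : K, c ≠ 1 → p.eval c ≠ 0 := fun c hc => eval_charpoly_std_ne_zero hc
  have hinner : ((X - C d⁻¹) * p).eval d ≠ 0 := by
    rw [eval_mul, eval_sub, eval_X, eval_C]
    exact mul_ne_zero (sub_ne_zero.2 hdd) (hpd d hd1)
  have hαc : Cyc (Matrix.toLin' α) ((X - C d) * ((X - C d⁻¹) * p)) := by
    have e0 : α 0 0 = d := by rw [hα, mul_diagonal, (hUi 0 0).2.1 rfl, one_mul]; rfl
    have e1 : α.submatrix Fin.succ Fin.succ 0 0 = d⁻¹ := by
      rw [submatrix_apply, hα, mul_diagonal, (hUi _ _).2.1 rfl, one_mul]; rfl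
    have hin : Cyc (Matrix.toLin' (α.submatrix Fin.succ Fin.succ)) ((X - C d⁻¹) * p) := by
      rw [← e1]
      refine cyc_upper _ (fun i => ?_) ?_ (e1 ▸ hpd _ hd1')
      · rw [submatrix_apply, hα, mul_diagonal, (hUi _ _).1 (by simp), zero_mul]
      · refine cyc_of_sim (sim_of_upReg fun i j => ?_) cyc_std
        simp only [submatrix_apply, hα, mul_diagonal, hδ, Fin.cons_succ, Pi.one_apply, mul_one]
        exact ⟨fun h => (hUi _ _).1 (by simpa using h), fun h => (hUi _ _).2.1 (by rw [h]),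
          fun h => (hUi _ _).2.2 (by simpa using h)⟩
    have := cyc_upper α (fun i => by rw [hα, mul_diagonal, (hUi _ _).1 (by simp), zero_mul]) hin
      (by rw [e0]; exact hinner)
    rwa [e0] at this
  have hβc : Cyc (Matrix.toLin' β) ((X - C d) * ((X - C d⁻¹) * p)) := by
    have e0 : β 0 0 = d := by rw [hβ, mul_diagonal, (hL 0 0).2.1 rfl, one_mul]; rfl
    have e1 : β.submatrix Fin.succ Fin.succ 0 0 = d⁻¹ := by
      rw [submatrix_apply, hβ, mul_diagonal, (hL _ _).2.1 rfl, one_mul]; rfl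
    have hin : Cyc (Matrix.toLin' (β.submatrix Fin.succ Fin.succ)) ((X - C d⁻¹) * p) := by
      rw [← e1]
      refine cyc_lower _ (fun j => ?_) ?_ (e1 ▸ hpd _ hd1')
      · rw [submatrix_apply, hβ, mul_diagonal, (hL _ _).1 (by simp), zero_mul]
      · refine cyc_of_sim (sim_of_lowReg fun i j => ?_) cyc_std
        simp only [submatrix_apply, hβ, mul_diagonal, hδ, Fin.cons_succ, Pi.one_apply, mul_one]
        exact ⟨fun h => (hL _ _).1 (by simpa using h), fun h => (hL _ _).2.1 (by rw [h]),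
          fun h => (hL _ _).2.2 (by simpa using h)⟩
    have := cyc_lower β (fun j => by rw [hβ, mul_diagonal, (hL _ _).1 (by simp), zero_mul]) hin
      (by rw [e0]; exact hinner)
    rwa [e0] at this
  have hUdet : U.det = 1 := by
    rw [det_of_isUpperTriangular (fun i j h => (hU i j).1 h)]
    exact Finset.prod_eq_one fun i _ => (hU i i).2.1 rfl
  have hαdet : α.det = 1 := by
    rw [hα, det_mul, det_nonsing_inv, hUdet, Ring.inverse_one, one_mul, det_diagonal, hδ,
      Fin.prod_univ_succ, Fin.prod_univ_succ]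
    simp [hd0]
  have hprod : L * U * α = β := by
    rw [hα, hβ, Matrix.mul_assoc, ← Matrix.mul_assoc U,
      Matrix.mul_nonsing_inv _ (by rw [hUdet]; exact isUnit_one), Matrix.one_mul]
  have hfix : HasFix (Matrix.toLin' α) :=
    hasFix_of_simple_root ((monic_X_sub_C _).mul (LinearMap.charpoly_monic _)) hinner hαc
  obtain ⟨E, hE⟩ := hβc.exists_equiv hαc
  refine isComm_of_equiv _ (by rw [LinearMap.det_toLin', hαdet]) hfix E fun x => ?_
  rw [← hE, ← hprod, Matrix.toLin'_mul (L * U)]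
  rfl

/-- A transvection. -/
theorem isComm_rank_one (h4 : Four K) {n : ℕ} {u f : Fin n → K} (hu : u ≠ 0) (hf : f ≠ 0)
    (hfu : f ⬝ᵥ u = 0) : IsComm (Matrix.toLin' (1 + vecMulVec u f)) 1 := by
  obtain ⟨d, hd0, hd1, hd2, hdd, -⟩ := exists_sq_ne_one h4
  obtain ⟨i, hi⟩ := Function.ne_iff.1 hf
  obtain ⟨j, hj⟩ := Function.ne_iff.1 hu
  obtain ⟨w, hw⟩ : ∃ w, f ⬝ᵥ w = 1 :=
    ⟨Pi.single i (f i)⁻¹, by rw [dotProduct_single, mul_inv_cancel₀ hi]⟩
  obtain ⟨g, hgu, hgw⟩ : ∃ g, g ⬝ᵥ u = 1 ∧ g ⬝ᵥ w = 0 := by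
    obtain ⟨g₀, hg₀⟩ : ∃ g, g ⬝ᵥ u = 1 :=
      ⟨Pi.single j (u j)⁻¹, by rw [single_dotProduct, inv_mul_cancel₀ hj]⟩
    refine ⟨g₀ - (g₀ ⬝ᵥ w) • f, ?_, ?_⟩
    · rw [sub_dotProduct, smul_dotProduct, hfu, smul_zero, sub_zero, hg₀]
    · rw [sub_dotProduct, smul_dotProduct, hw, smul_eq_mul, mul_one, sub_self]
  set x := (d * d - 1)⁻¹ with hx
  have hdd0 : d * d - 1 ≠ 0 := fun h => by
    rcases mul_self_eq_one_iff.1 (sub_eq_zero.1 h) with h | h
    · exact hd1 h
    · exact hd2 h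
  set α := (1 + vecMulVec ((d - 1) • u) g) * (1 + vecMulVec ((d⁻¹ - 1) • w) f) with hα
  have h1 : ∀ a b : Fin n → K, (1 + vecMulVec a b).det = 1 + b ⬝ᵥ a := fun a b => by
    rw [vecMulVec_eq Unit, det_one_add_replicateCol_mul_replicateRow]
  have hαu : α *ᵥ u = d • u := by
    have e : (1 + vecMulVec ((d⁻¹ - 1) • w) f) *ᵥ u = u := by
      rw [add_mulVec, one_mulVec, vecMulVec_mulVec, hfu]
      simp
    rw [hα, ← mulVec_mulVec, e, add_mulVec, one_mulVec, vecMulVec_mulVec, hgu]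
    simp [sub_smul]
  have hfα : f ᵥ* α = d⁻¹ • f := by
    have e : f ᵥ* (1 + vecMulVec ((d - 1) • u) g) = f := by
      rw [vecMul_add, vecMul_one, vecMul_vecMulVec, dotProduct_smul, hfu]
      simp
    rw [hα, ← vecMul_vecMul, e, vecMul_add, vecMul_one, vecMul_vecMulVec, dotProduct_smul, hw]
    simp [sub_smul]
  refine isComm_toLin' (α := α) (b := 1 + vecMulVec (x • u) f) ?_ ?_ ?_
  · rw [hα, det_mul, h1, h1, dotProduct_smul, dotProduct_smul, hgu, hw, smul_eq_mul, smul_eq_mul,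
      mul_one, mul_one, add_sub_cancel, add_sub_cancel, mul_inv_cancel₀ hd0]
  · rw [h1, dotProduct_smul, hfu, smul_zero, add_zero]
  · have e : (1 + vecMulVec (x • u) f) * (1 + vecMulVec u f) = 1 + vecMulVec ((x + 1) • u) f := by
      rw [Matrix.mul_add, Matrix.mul_one, Matrix.add_mul, Matrix.one_mul, vecMulVec_mul_vecMulVec,
        hfu, add_smul, one_smul, add_vecMulVec]
      simp [add_assoc]
    rw [← Matrix.mul_assoc, e, Matrix.mul_add, Matrix.mul_one, Matrix.add_mul, Matrix.one_mul,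
      Matrix.mul_vecMulVec, Matrix.vecMulVec_mul, mulVec_smul, hαu, hfα]
    congr 1
    ext a b
    simp only [vecMulVec_apply, Pi.smul_apply, smul_eq_mul]
    have key : x * d = (x + 1) * d⁻¹ := by
      have hxx : x * (d * d - 1) = 1 := by rw [hx]; exact inv_mul_cancel₀ hdd0
      field_simp
      linear_combination hxx
    linear_combination (u a * f b) * key

theorem exists_commutator_of_diag {n : ℕ} (g : Matrix.SpecialLinearGroup (Fin (n + 1)) K)
    (hns : NonScalar g.1) (d : Fin (n + 1) → K) (hd : Function.Injective d) (hd1 : ∏ i, d i = 1) :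
    ∃ a b : Matrix.SpecialLinearGroup (Fin (n + 1)) K, g = a * b * a⁻¹ * b⁻¹ := by
  have hd0 : ∀ i, d i ≠ 0 := fun i h =>
    zero_ne_one ((Finset.prod_eq_zero (Finset.mem_univ i) h).symm.trans hd1)
  let D : Matrix.SpecialLinearGroup (Fin (n + 1)) K := ⟨diagonal d, by rw [det_diagonal, hd1]⟩
  let D' : Matrix.SpecialLinearGroup (Fin (n + 1)) K :=
    ⟨diagonal fun i => (d i)⁻¹, by rw [det_diagonal, Finset.prod_inv_distrib, hd1, inv_one]⟩
  have hDD : D * D' = 1 := by
    apply Subtype.ext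
    show diagonal d * diagonal _ = 1
    rw [diagonal_mul_diagonal, ← diagonal_one]
    congr 1; funext i; exact mul_inv_cancel₀ (hd0 i)
  obtain ⟨u, v, huv⟩ := exists_prod_diag_conj g (fun _ => hns) D D' rfl rfl hd
    fun i j h => hd (inv_injective h)
  refine ⟨u * D * u⁻¹, v * u⁻¹, ?_⟩
  rw [huv, ← inv_eq_of_mul_eq_one_right hDD]
  group

theorem exists_commutator_large [Fintype K] (hK : 4 ≤ Fintype.card K) {n : ℕ}
    (g : Matrix.SpecialLinearGroup (Fin n) K) :
    ∃ a b : Matrix.SpecialLinearGroup (Fin n) K, g = a * b * a⁻¹ * b⁻¹ := by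
  classical
  have h4 : Four K := by
    intro s hs
    by_contra! hall
    have : Fintype.card K ≤ s.card := Finset.card_le_card fun x _ => hall x
    omega
  by_cases hns : NonScalar g.1
  swap
  · obtain ⟨ω, hω⟩ : ∃ ω : K, g.1 = ω • 1 := not_not.1 hns
    refine exists_of_isComm g ?_
    rw [hω, map_smul, Matrix.toLin'_one]
    rcases Nat.eq_zero_or_pos n with rfl | hn
    · exact isComm_of_subsingleton _
    have hd : ω ^ n = 1 := by
      have := g.2
      rwa [hω, det_smul, det_one, mul_one, Fintype.card_fin] at this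
    have hω0 : ω ≠ 0 := fun e => by rw [e, zero_pow hn.ne'] at hd; exact zero_ne_one hd
    obtain ⟨c, hc⟩ := orderOf_dvd_of_pow_eq_one hd
    exact isComm_scalar c hω0 _ (by rw [Module.finrank_fin_fun]; rw [hc, mul_comm])
  rcases n with _ | _ | _ | _ | m
  · exact absurd ⟨0, Matrix.ext fun i => i.elim0⟩ hns
  · exact absurd ⟨g.1 0 0, Matrix.ext fun i j => by fin_cases i; fin_cases j; simp⟩ hns
  · obtain ⟨d, hd0, -, -, hdd, -⟩ := exists_sq_ne_one h4
    exact exists_commutator_of_diag g hns ![d, d⁻¹]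
      (by intro i j h; fin_cases i <;> fin_cases j <;> simp_all [eq_comm])
      (by simp [Fin.prod_univ_two, hd0])
  · obtain ⟨d, hd0, hd1, -, hdd, hd1'⟩ := exists_sq_ne_one h4
    exact exists_commutator_of_diag g hns ![d, d⁻¹, 1]
      (by intro i j h; fin_cases i <;> fin_cases j <;> simp_all [eq_comm])
      (by simp [Fin.prod_univ_three, hd0])
  refine exists_of_isComm g ?_
  by_cases hrk : 2 ≤ finrank K (LinearMap.range (g.1 - 1).mulVecLin)
  · exact isComm_wide (m := m + 1) h4 g.2 ⟨hns, hrk⟩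
  obtain ⟨⟨u, hu0⟩, hu⟩ := finrank_le_one_iff.1 (show finrank K (LinearMap.range (g.1 - 1).mulVecLin) ≤ 1 by omega)
  choose f hf using fun j : Fin (m + 4) => hu ⟨(g.1 - 1).mulVecLin (Pi.single j 1), LinearMap.mem_range_self _ _⟩
  have hA1 : g.1 = 1 + vecMulVec u f := by
    ext i j
    have e := congrFun (congrArg Subtype.val (hf j)) i
    simp only [SetLike.val_smul, Pi.smul_apply, smul_eq_mul, mulVecLin_apply, mulVec_single_one,
      col_apply, Matrix.sub_apply] at e
    rw [Matrix.add_apply, vecMulVec_apply, mul_comm, e]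
    abel
  have hne : vecMulVec u f ≠ 0 := fun h => hns ⟨1, by rw [one_smul]; exact hA1.trans (by rw [h, add_zero])⟩
  have hun : u ≠ 0 := fun h => hne (by rw [h]; exact zero_vecMulVec f)
  have hfn : f ≠ 0 := fun h => hne (by rw [h]; exact vecMulVec_zero u)
  have hfu : f ⬝ᵥ u = 0 := by
    have h := g.2
    rw [hA1, vecMulVec_eq Unit, det_one_add_replicateCol_mul_replicateRow] at h
    exact add_eq_left.1 h
  rw [hA1]
  exact isComm_rank_one h4 hun hfn hfu

end CfsgLib.Classical.SmallFieldComm
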