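import Cfsg.Agent.Lib.Classical.SmallFieldComm.Tools
import Cfsg.Agent.Lib.Classical.SmallFieldComm.Decomp

/-!
# Every element of `SL_n(3)` is a commutator for `n ≥ 3`
-/

set_option autoImplicit false

namespace CfsgLib.Classical.SmallFieldComm.FieldThree

open Polynomial Module Matrix

local notation "F₃" => ZMod 3

theorem cases_ne_zero : ∀ x : F₃, x ≠ 0 → x = 1 ∨ x = -1 := by decide

theorem neg_one_ne_one : (-1 : F₃) ≠ 1 := by decide

variable {V W Z : Type} [AddCommGroup V] [Module F₃ V] [AddCommGroup W] [Module F₃ W]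
  [AddCommGroup Z] [Module F₃ Z]

/-- A commutator with a free determinant. -/
def Good (φ : Module.End F₃ V) : Prop := ∀ e : F₃, e ≠ 0 → IsComm φ e

theorem Good.conj {φ : Module.End F₃ V} {ψ : Module.End F₃ W} (h : Good φ) (E : V ≃ₗ[F₃] W)
    (hE : ∀ x, E (φ x) = ψ (E x)) : Good ψ := fun e he => (h e he).conj E hE

theorem Good.prod [FiniteDimensional F₃ V] [FiniteDimensional F₃ W] {φ : Module.End F₃ V}
    {ψ : Module.End F₃ W} {f : F₃} (h : Good φ) (h' : IsComm ψ f) (hf : f ≠ 0) :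
    Good (φ.prodMap ψ) := fun e he => by
  have := (h (e * f⁻¹) (mul_ne_zero he (inv_ne_zero hf))).prod h'
  rwa [mul_assoc, inv_mul_cancel₀ hf, mul_one] at this

theorem good_of_two {φ : Module.End F₃ V} (h : IsComm φ 1) (h' : IsComm φ (-1)) : Good φ :=
  fun e he => by rcases cases_ne_zero e he with rfl | rfl <;> assumption

theorem good_of_cyc [FiniteDimensional F₃ V] {φ : Module.End F₃ V} {h : F₃[X]} (hφ : Cyc φ h)
    (hd : 3 ≤ finrank F₃ V) (hdet : LinearMap.det φ = 1) : Good φ := by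
  obtain ⟨k, hk⟩ : ∃ k, finrank F₃ V = k + 3 := ⟨_, (Nat.sub_add_cancel hd).symm⟩
  intro e he
  have := isComm_cyc hφ hk hdet (t := 1) (u := e) (q₀ := 1) (q₁ := 0) one_ne_zero he (by decide)
  simpa using this

/-- The polynomial of a Jordan block of size two. -/
noncomputable def J (c : F₃) : F₃[X] := (X - C c) ^ 2

theorem natDegree_J (c : F₃) : (J c).natDegree = 2 := by
  rw [J, natDegree_pow, natDegree_X_sub_C, mul_one]

def mj : F₃ → Matrix (Fin 2) (Fin 2) F₃ := fun c => !![0, -1; 1, 2 * c]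
def rp : Matrix (Fin 2) (Fin 2) F₃ := !![0, 1; 1, 2]
def rm : Matrix (Fin 2) (Fin 2) F₃ := !![0, 1; 1, 1]
def iq : Matrix (Fin 2) (Fin 2) F₃ := !![0, 2; 1, 0]
def m1 : Matrix (Fin 1) (Fin 1) F₃ := !![2]

theorem cyc_mj {c : F₃} (hc : c ≠ 0) : Cyc (Matrix.toLin' (mj c)) (J c) := by
  rcases cases_ne_zero c hc with rfl | rfl <;>
  · refine cyc_matrix _ ![1, 0] ((monic_X_sub_C _).pow 2) (natDegree_J _) (by decide) ?_
    simp only [J, map_pow, map_sub, aeval_X, aeval_C, map_one, map_neg]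
    decide

theorem cyc_quad2 {M : Matrix (Fin 2) (Fin 2) F₃} {q₀ q₁ : F₃}
    (hind : ∀ c : Fin 2 → F₃, ∑ i, c i • ((M ^ (i : ℕ)) *ᵥ ![1, 0]) = 0 → c = 0)
    (h : M * M + q₁ • M + q₀ • 1 = 0) : Cyc (Matrix.toLin' M) (quad q₀ q₁) := by
  refine cyc_matrix M ![1, 0] (monic_quad _ _) (natDegree_quad _ _) hind ?_
  simpa [quad, pow_two, Algebra.algebraMap_eq_smul_one] using h

theorem cyc_rp : Cyc (Matrix.toLin' rp) (quad (-1) 1) := cyc_quad2 (by decide) (by decide)
theorem cyc_rm : Cyc (Matrix.toLin' rm) (quad (-1) (-1)) := cyc_quad2 (by decide) (by decide)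
theorem cyc_iq : Cyc (Matrix.toLin' iq) (quad 1 0) := cyc_quad2 (by decide) (by decide)

theorem cyc_m1 : Cyc (Matrix.toLin' m1) (X - C (-1)) := by
  refine cyc_matrix m1 ![1] (monic_X_sub_C _) (natDegree_X_sub_C _) (by decide) ?_
  simp only [map_sub, aeval_X, aeval_C, map_neg, map_one]
  decide

theorem isComm_iq : Good (Matrix.toLin' iq) :=
  good_of_two (isComm_toLin' (α := !![1, 2; 1, 0]) (b := !![0, 1; 2, 2]) (by decide) (by decide) (by decide))
    (isComm_toLin' (α := !![1, 0; 0, 2]) (b := !![1, 1; 1, 2]) (by decide) (by decide) (by decide))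

theorem isComm_mj {c : F₃} (hc : c ≠ 0) : IsComm (Matrix.toLin' (mj c)) (-1) := by
  rcases cases_ne_zero c hc with rfl | rfl
  · exact isComm_toLin' (α := !![0, 2; 2, 0]) (b := !![0, 2; 1, 2]) (by decide) (by decide) (by decide)
  · exact isComm_toLin' (α := !![1, 0; 2, 2]) (b := !![1, 2; 1, 0]) (by decide) (by decide) (by decide)

theorem isComm_m11 : Good (Matrix.toLin' (blocks m1 m1)) :=
  good_of_two (isComm_toLin' (α := !![0, 1; 2, 0]) (b := !![2, 2; 2, 1]) (by decide) (by decide) (by decide))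
    (isComm_toLin' (α := !![1, 0; 2, 2]) (b := !![1, 2; 2, 2]) (by decide) (by decide) (by decide))

theorem commPoly_m11 : IsCommPoly (Matrix.toLin' (blocks m1 m1)) 1 (quad 1 0) := by
  refine ⟨Matrix.toLin' !![0, 1; 2, 0], Matrix.toLin' !![2, 2; 2, 1], ?_, ?_, ?_, ?_⟩
  · rw [LinearMap.det_toLin']; decide
  · rw [LinearMap.det_toLin']; decide
  · simp only [Module.End.mul_eq_comp, ← Matrix.toLin'_mul]
    congr 1
    decide
  · exact (cyc_quad2 (by decide) (by decide)).aeval_self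

theorem det_four (M : Matrix (Fin 4) (Fin 4) F₃) {d : F₃}
    (h : M 0 0 * (M 1 1 * (M 2 2 * M 3 3 - M 2 3 * M 3 2) - M 1 2 * (M 2 1 * M 3 3 - M 2 3 * M 3 1) +
          M 1 3 * (M 2 1 * M 3 2 - M 2 2 * M 3 1)) -
      M 0 1 * (M 1 0 * (M 2 2 * M 3 3 - M 2 3 * M 3 2) - M 1 2 * (M 2 0 * M 3 3 - M 2 3 * M 3 0) +
          M 1 3 * (M 2 0 * M 3 2 - M 2 2 * M 3 0)) +
      M 0 2 * (M 1 0 * (M 2 1 * M 3 3 - M 2 3 * M 3 1) - M 1 1 * (M 2 0 * M 3 3 - M 2 3 * M 3 0) +
          M 1 3 * (M 2 0 * M 3 1 - M 2 1 * M 3 0)) -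
      M 0 3 * (M 1 0 * (M 2 1 * M 3 2 - M 2 2 * M 3 1) - M 1 1 * (M 2 0 * M 3 2 - M 2 2 * M 3 0) +
          M 1 2 * (M 2 0 * M 3 1 - M 2 1 * M 3 0)) = d) : M.det = d := by
  rw [← h]
  simp [Matrix.det_succ_row_zero, Fin.sum_univ_succ, Fin.succAbove]
  ring

theorem wit4 {G : Matrix (Fin 4) (Fin 4) F₃} {e : F₃} (A B : Matrix (Fin 4) (Fin 4) F₃)
    (hA : A.det = e) (hB : B.det = 1) (h : A * B = B * (G * A)) : IsComm (Matrix.toLin' G) e :=
  isComm_toLin' hA hB h

theorem isComm_rp2 : Good (Matrix.toLin' (blocks rp rp)) :=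
  good_of_two
    (wit4 !![0, 0, 2, 2; 2, 1, 0, 1; 1, 0, 1, 2; 2, 1, 0, 2] !![1, 0, 1, 0; 0, 0, 2, 0; 0, 2, 1, 2; 2, 2, 2, 1]
      (det_four _ (by decide)) (det_four _ (by decide)) (by decide))
    (wit4 !![0, 0, 2, 0; 2, 2, 0, 0; 2, 0, 2, 1; 2, 0, 0, 0] !![2, 0, 2, 1; 1, 2, 1, 1; 1, 2, 1, 2; 0, 0, 2, 2]
      (det_four _ (by decide)) (det_four _ (by decide)) (by decide))

theorem isComm_rm2 : Good (Matrix.toLin' (blocks rm rm)) :=
  good_of_two
    (wit4 !![0, 0, 2, 2; 2, 0, 0, 0; 1, 2, 2, 2; 2, 0, 1, 0] !![1, 2, 2, 1; 2, 2, 0, 2; 1, 0, 2, 1; 1, 1, 1, 2]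
      (det_four _ (by decide)) (det_four _ (by decide)) (by decide))
    (wit4 !![0, 2, 0, 0; 0, 0, 0, 1; 2, 0, 0, 0; 0, 2, 1, 0] !![1, 0, 2, 0; 0, 2, 1, 2; 1, 2, 0, 1; 1, 1, 0, 2]
      (det_four _ (by decide)) (det_four _ (by decide)) (by decide))

theorem isComm_mj2 {c : F₃} (hc : c ≠ 0) : IsComm (Matrix.toLin' (blocks (mj c) (mj c))) (-1) := by
  rcases cases_ne_zero c hc with rfl | rfl
  · exact wit4 !![1, 1, 1, 1; 0, 2, 2, 1; 2, 1, 2, 1; 2, 0, 0, 2]
      !![1, 0, 1, 0; 0, 2, 2, 0; 1, 1, 2, 2; 2, 1, 2, 1]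
      (det_four _ (by decide)) (det_four _ (by decide)) (by decide)
  · exact wit4 !![0, 2, 1, 0; 0, 1, 0, 2; 2, 0, 2, 0; 1, 0, 0, 0]
      !![2, 1, 2, 1; 1, 0, 1, 0; 2, 1, 1, 1; 2, 1, 1, 2]
      (det_four _ (by decide)) (det_four _ (by decide)) (by decide)

/-- A block of determinant minus one. -/
def Blk (φ : Module.End F₃ V) : Prop :=
  ∃ (π : F₃[X]) (e : ℕ), Irreducible π ∧ π.Monic ∧ Cyc φ (π ^ e) ∧ LinearMap.det φ = -1

theorem Blk.finrank_pos {φ : Module.End F₃ V} (h : Blk φ) : 0 < finrank F₃ V := by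
  obtain ⟨π, e, -, -, hφ, hd⟩ := h
  rcases Nat.eq_zero_or_pos (finrank F₃ V) with h0 | h0
  · have := hφ.2.1
    rw [LinearMap.det_eq_one_of_finrank_eq_zero h0] at hd
    exact absurd hd neg_one_ne_one.symm
  · exact h0

theorem Blk.small {φ : Module.End F₃ V} {π : F₃[X]} {e : ℕ} (hπ : Irreducible π)
    (hφ : Cyc φ (π ^ e)) (hd : LinearMap.det φ = -1) :
    (finrank F₃ V = 1 → π ^ e = X - C (-1)) ∧
      (finrank F₃ V = 2 → π ^ e = quad (-1) 1 ∨ π ^ e = quad (-1) (-1)) := by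
  set p := π ^ e with hp
  have hpm := hφ.1
  have hdeg := hφ.2.2.1
  refine ⟨fun hn => ?_, fun hn => ?_⟩
  · have h0 : p.coeff 0 = 1 := by
      rw [hφ.det_eq, hdeg, hn, pow_one, neg_one_mul, neg_inj] at hd
      exact hd
    rw [hpm.eq_X_add_C (hdeg.trans hn), h0, C_neg, C_1, sub_neg_eq_add]
  · have h0 : p.coeff 0 = -1 := by
      rw [hφ.det_eq, hdeg, hn, neg_one_sq, one_mul] at hd
      exact hd
    have hquad : p = quad (-1) (p.coeff 1) := by
      ext i
      rcases i with _ | _ | _ | i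
      · simp [quad, h0, coeff_one, coeff_C]
      · simp [quad, coeff_one, coeff_C]
      · simpa [quad, hdeg, hn, coeff_one, coeff_C] using hpm.coeff_natDegree
      · rw [coeff_eq_zero_of_natDegree_lt (by omega),
          coeff_eq_zero_of_natDegree_lt (by rw [natDegree_quad]; omega)]
    rcases (show ∀ x : F₃, x = 0 ∨ x = 1 ∨ x = -1 by decide) (p.coeff 1) with ha | ha | ha
    · exfalso
      have hev : ∀ c : F₃, c * c = 1 → X - C c ∣ π := by
        intro c hc
        refine (irreducible_X_sub_C c).prime.dvd_of_dvd_pow (n := e) ?_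
        rw [← hp, hquad, ha, dvd_iff_isRoot, IsRoot, eval_quad, zero_mul, add_zero, hc]
        decide
      have h1 := (irreducible_X_sub_C (1 : F₃)).associated_of_dvd hπ (hev 1 (by decide))
      have h2 := (irreducible_X_sub_C (-1 : F₃)).associated_of_dvd hπ (hev (-1) (by decide))
      have := eq_of_monic_of_associated (monic_X_sub_C _) (monic_X_sub_C _) (h1.trans h2.symm)
      exact neg_one_ne_one (C_injective (sub_right_inj.1 this)).symm
    · exact Or.inl (by rw [hquad, ha])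
    · exact Or.inr (by rw [hquad, ha])

theorem det_quad_irreducible : ∀ x : F₃, x * x + 0 * x + 1 ≠ 0 := by decide

set_option maxHeartbeats 1000000 in
/-- A block of degree one and one of degree at least three. -/
theorem good_one_big [FiniteDimensional F₃ V] [FiniteDimensional F₃ W] {φ : Module.End F₃ V}
    {ψ : Module.End F₃ W} {j : ℕ} (hj : 3 ≤ j) (hφ : Cyc φ ((X - C (-1)) ^ j))
    (hφd : LinearMap.det φ = -1) (hψ : Cyc ψ (X - C (-1))) : Good (φ.prodMap ψ) := by
  have hn : finrank F₃ V = j := by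
    rw [← hφ.2.2.1, natDegree_pow, natDegree_X_sub_C, mul_one]
  have hW : finrank F₃ W = 1 := by rw [← hψ.2.2.1, natDegree_X_sub_C]
  rcases (show j = 3 ∨ j = 4 ∨ ∃ m, j = m + 5 by
      by_cases h5 : 5 ≤ j
      · exact Or.inr (Or.inr ⟨j - 5, by omega⟩)
      · omega) with rfl | rfl | ⟨m, rfl⟩
  · intro e he
    have key : ∀ q₀ q₁ : F₃, (∀ x, x * x + q₁ * x + q₀ ≠ 0) → IsComm (φ.prodMap ψ) (-q₀) := by
      intro q₀ q₁ hq
      obtain ⟨α₁, hα₁, hφα⟩ := exists_cyc_mul hφ (k := 0) hn (t := 1) (u := -1)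
        (p := quad q₀ q₁ * (X - C 1)) one_ne_zero (by decide) (by rw [eval_quad]; exact hq 1)
        (by rw [eval_quad]; exact hq (-1)) ((monic_quad _ _).mul (monic_X_sub_C _))
        (by rw [natDegree_mul (monic_quad q₀ q₁).ne_zero (X_sub_C_ne_zero _), natDegree_quad,
          natDegree_X_sub_C])
        (by rw [mul_coeff_zero, coeff_quad, hφd, coeff_sub, coeff_X_zero, coeff_C_zero]; ring)
      have hα₁' : Cyc α₁ (quad q₀ q₁ * (X - C (-1))) := by
        rw [pow_zero, one_mul, mul_comm (X - C (-1))] at hα₁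
        exact hα₁
      have hq' : ∀ c : F₃, IsCoprime (quad q₀ q₁) (X - C c) := fun c =>
        ((irreducible_X_sub_C c).coprime_iff_not_dvd.2 fun hd => hq c (by
          rw [← eval_quad]; exact dvd_iff_isRoot.1 hd)).symm
      have hfix := hasFix_of_factor (monic_quad _ _) (monic_X_sub_C _) (hq' _) hα₁'
        (hasFix_model_irreducible (irreducible_quad hq))
      have hone : Cyc (1 : Module.End F₃ W) (X - C 1) := by
        obtain ⟨v, hv⟩ : ∃ v : W, v ≠ 0 := by
          have : Nontrivial W := Module.nontrivial_of_finrank_pos (R := F₃) (by omega)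
          exact exists_ne 0
        refine ⟨monic_X_sub_C 1, inferInstance, by rw [natDegree_X_sub_C, hW], v, fun r => ?_⟩
        have e : aeval (1 : Module.End F₃ W) r v = r.eval 1 • v := by
          rw [show (1 : Module.End F₃ W) = algebraMap F₃ _ 1 from (map_one _).symm, aeval_algebraMap_apply]
          simp [Algebra.algebraMap_eq_smul_one]
        rw [e, smul_eq_zero, or_iff_left hv, dvd_iff_isRoot]
        rfl
      have h := isComm_swap (φ := φ) (ψ := ψ) (α₁ := α₁) (α₂ := 1) (P₁ := quad q₀ q₁) (P₂ := 1)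
        (A := X - C (-1)) (B := X - C 1) (monic_quad _ _) monic_one (monic_X_sub_C _) (monic_X_sub_C _)
        (hq' _) (hq' _) isCoprime_one_left isCoprime_one_left hα₁' hφα (by rw [one_mul]; exact hone)
        (by rw [mul_one, one_mul]; exact hψ) hfix
      rw [map_one, mul_one, hα₁'.det_eq, natDegree_mul (monic_quad q₀ q₁).ne_zero (X_sub_C_ne_zero _),
        natDegree_quad, natDegree_X_sub_C, mul_coeff_zero, coeff_quad, coeff_sub, coeff_X_zero,
        coeff_C_zero, show (-1 : F₃) ^ (2 + 1) * (q₀ * (0 - -1)) = -q₀ by ring] at h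
      exact h
    rcases cases_ne_zero e he with rfl | rfl
    · simpa using key (-1) 1 (by decide)
    · simpa using key 1 0 (by decide)
  · exfalso
    rw [hφ.det_eq, natDegree_pow, natDegree_X_sub_C, coeff_zero_eq_eval_zero, eval_pow] at hφd
    simp at hφd
    exact absurd hφd (by decide)
  · -- glue
    intro e he
    set Q : F₃[X] := (X - C (-1)) ^ (m + 4) with hQ
    have hQm : Q.Monic := (monic_X_sub_C _).pow _
    have hQd : Q.natDegree = m + 4 := by rw [hQ, natDegree_pow, natDegree_X_sub_C, mul_one]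
    have : Module.Finite F₃ (AdjoinRoot Q) := (AdjoinRoot.powerBasis hQm.ne_zero).finite
    obtain ⟨E, hE⟩ := exists_blocks_equiv m1 m1
    have hm1 : Cyc (Matrix.toLin' m1) ((X - C (-1)) ^ 1) := by rw [pow_one]; exact cyc_m1
    obtain ⟨E₁, hE₁⟩ := hm1.exists_equiv (cyc_model ((monic_X_sub_C _).pow 1))
    obtain ⟨E₂, hE₂⟩ := cyc_m1.exists_equiv hψ
    obtain ⟨α₁, b₁, hα₁, hb₁, hab₁, hp₁⟩ :=
      IsCommPoly.conj (ψ := (model ((X - C (-1) : F₃[X]) ^ 1)).prodMap ψ) (commPoly_m11.conj E hE)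
        (E₁.prodCongr E₂) fun x => Prod.ext (hE₁ x.1) (hE₂ x.2)
    have hm : finrank F₃ (AdjoinRoot Q) = m + 1 + 3 := by
      rw [(AdjoinRoot.powerBasis hQm.ne_zero).finrank, AdjoinRoot.powerBasis_dim, hQd]
    have hdetQ : LinearMap.det (model Q) = 1 := by
      rw [det_model hQm, hQd, hQ, coeff_zero_eq_eval_zero, eval_pow, eval_sub, eval_X, eval_C,
        zero_sub, neg_neg, one_pow, mul_one]
      have h5 : (-1 : F₃) ^ (m + 5) = -1 := by
        rw [hφ.det_eq, natDegree_pow, natDegree_X_sub_C, mul_one, coeff_zero_eq_eval_zero, eval_pow,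
          eval_sub, eval_X, eval_C, zero_sub, neg_neg, one_pow, mul_one] at hφd
        exact hφd
      rw [pow_succ] at h5
      linear_combination -h5
    obtain ⟨α₂, hα₂, hα₂', hfix, hd₂⟩ := exists_factor (cyc_model hQm) hm (t := (1 : F₃)) (u := -e)
      (q₀ := -1) (q₁ := 1) (q₀' := -1) (q₁' := 1) one_ne_zero (neg_ne_zero.2 he) (by decide)
      (by rw [hdetQ, one_mul])
    obtain ⟨E', hE'⟩ := hα₂'.exists_equiv hα₂
    obtain ⟨c, hc, hcd⟩ := hfix (LinearMap.det E'.toLinearMap)⁻¹ (inv_ne_zero E'.isUnit_det'.ne_zero)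
    have hab₂ : α₂ * (c * E'.toLinearMap) = (c * E'.toLinearMap) * (model Q * α₂) := by
      rw [← mul_assoc, ← hc, mul_assoc, mul_assoc c]
      congr 1
      exact LinearMap.ext fun x => (hE' x).symm
    have hcop : IsCoprime (quad (1 : F₃) 0) (lin (m + 1) (1 : F₃) (-e) * quad (-1) 1) := by
      refine (coprime_lin_quad det_quad_irreducible _ _ _).symm.mul_right ⟨-X, X - 1, ?_⟩
      have h3 : (3 : F₃[X]) = 0 := by rw [← map_ofNat C 3, show (3 : F₃) = 0 by decide, C_0]
      simp only [quad, C_0, C_1, C_neg]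
      linear_combination (-X) * h3
    have hφ' : Cyc φ ((X - C (-1)) ^ 1 * (X - C (-1)) ^ (m + 4)) := by
      rw [← pow_add, Nat.add_comm 1 (m + 4)]; exact hφ
    have h := isComm_jordan_glue (-1) 1 (m + 4) hφ' hα₁ hd₂ hb₁
      (by rw [map_mul, hcd, inv_mul_cancel₀ E'.isUnit_det'.ne_zero]) hab₁ hab₂ hp₁
      hα₂'.aeval_self hcop
    rw [one_pow, one_mul, one_mul, mul_neg_one, neg_neg] at h
    exact h

set_option maxHeartbeats 1000000 in
/-- A block of degree two and one of degree at least three. -/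
theorem good_two_big [FiniteDimensional F₃ V] [FiniteDimensional F₃ W] {φ : Module.End F₃ V}
    {ψ : Module.End F₃ W} {h : F₃[X]} (hn : 3 ≤ finrank F₃ V) (hφ : Cyc φ h)
    (hφd : LinearMap.det φ = -1) (M A : Matrix (Fin 2) (Fin 2) F₃) {r : F₃[X]}
    (hM : Cyc (Matrix.toLin' M) r) (hψ : Cyc ψ r) {q₁ : F₃} (hq : ∀ x, x * x + q₁ * x + -1 ≠ 0)
    (hA : Cyc (Matrix.toLin' A) (quad 1 0)) (hMA : Cyc (Matrix.toLin' (M * A)) (quad (-1) q₁)) :
    Good (φ.prodMap ψ) := by
  intro e he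
  obtain ⟨k, hk⟩ : ∃ k, finrank F₃ V = k + 3 := ⟨_, (Nat.sub_add_cancel hn).symm⟩
  obtain ⟨α₁, hα₁, hφα, hfix, hd₁⟩ := exists_factor hφ hk (t := 1) (u := -e) (q₀ := -1) (q₁ := q₁)
    (q₀' := 1) (q₁' := 0) one_ne_zero (neg_ne_zero.2 he) hq (by rw [hφd]; ring)
  have hlq : ∀ a b : F₃, (∀ x, x * x + b * x + a ≠ 0) →
      IsCoprime (lin k (1 : F₃) (-e)) (quad a b) := fun a b h => coprime_lin_quad h k 1 (-e)
  have h' := isComm_swap (φ := φ) (ψ := Matrix.toLin' M) (α₁ := α₁) (α₂ := Matrix.toLin' A)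
    (P₁ := lin k 1 (-e)) (P₂ := 1) (monic_lin _ _ _) monic_one (monic_quad _ _) (monic_quad _ _)
    (hlq _ _ hq) (hlq _ _ det_quad_irreducible) isCoprime_one_left isCoprime_one_left hα₁ hφα
    (by rw [one_mul]; exact hA)
    (by rw [one_mul, Module.End.mul_eq_comp, ← Matrix.toLin'_mul]; exact hMA) hfix
  obtain ⟨F, hF⟩ := hM.exists_equiv hψ
  have h'' := h'.prod_congr (LinearEquiv.refl F₃ V) F (φ' := φ) (fun _ => rfl) hF
  rw [hd₁, hA.det_eq, natDegree_quad, coeff_quad, one_pow, one_mul, mul_neg_one, neg_neg,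
    neg_one_sq, one_mul, mul_one] at h''
  exact h''

theorem good_pair [FiniteDimensional F₃ V] [FiniteDimensional F₃ W] {φ : Module.End F₃ V}
    {ψ : Module.End F₃ W} (h : Blk φ) (h' : Blk ψ) (hle : finrank F₃ W ≤ finrank F₃ V) :
    Good (φ.prodMap ψ) := by
  have hVp := h.finrank_pos
  have hWp := h'.finrank_pos
  obtain ⟨π, a, hπ, hπm, hφ, hφd⟩ := h
  obtain ⟨π', b, hπ', hπm', hψ, hψd⟩ := h'
  have hdd : LinearMap.det (φ.prodMap ψ) = 1 := by
    rw [LinearMap.det_prodMap, hφd, hψd, neg_one_mul, neg_neg]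
  obtain ⟨hφ1, hφ2⟩ := Blk.small hπ hφ hφd
  obtain ⟨hψ1, hψ2⟩ := Blk.small hπ' hψ hψd
  by_cases heq : π = π'
  swap
  · have hcop : IsCoprime (π ^ a) (π' ^ b) :=
      IsCoprime.pow (hπ.coprime_iff_not_dvd.2 fun hd => heq
        (eq_of_monic_of_associated hπm hπm' (hπ.associated_of_dvd hπ' hd)))
    refine good_of_cyc (hφ.prod hψ hcop) ?_ hdd
    rw [Module.finrank_prod]
    by_contra hlt
    rw [hφ1 (by omega), hψ1 (by omega)] at hcop
    exact not_isUnit_X_sub_C (-1 : F₃) (isCoprime_self.1 hcop)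
  subst heq
  have hmul : ∀ {U : Type} [AddCommGroup U] [Module F₃ U] {χ : Module.End F₃ U} {i : ℕ},
      Cyc χ (π ^ i) → finrank F₃ U = i * π.natDegree := fun hχ => by
    rw [← hχ.2.2.1, natDegree_pow]
  by_cases hW3 : 3 ≤ finrank F₃ W
  · intro e he
    obtain ⟨k, hk⟩ : ∃ k, finrank F₃ V = k + 3 := ⟨finrank F₃ V - 3, by omega⟩
    obtain ⟨l, hl⟩ : ∃ l, finrank F₃ W = l + 3 := ⟨finrank F₃ W - 3, by omega⟩
    have := isComm_pair hφ hψ hk hl hφd hψd (t := 1) (u := -e) (v := 1) (q₀ := 1) (q₁ := 0)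
      (q₁' := 1) one_ne_zero (neg_ne_zero.2 he) one_ne_zero (by decide) (by decide)
    simpa using this
  rcases (show finrank F₃ W = 1 ∨ finrank F₃ W = 2 by omega) with hW | hW
  · have hp' := hψ1 hW
    have hb : b = 1 := by
      have := hmul hψ
      rw [hW] at this
      exact (Nat.eq_one_of_mul_eq_one_right this.symm)
    rw [hb, pow_one] at hp' hψ
    subst hp'
    have ha : finrank F₃ V = a := by rw [hmul hφ, natDegree_X_sub_C, mul_one]
    rcases (show a = 1 ∨ a = 2 ∨ 3 ≤ a by omega) with rfl | rfl | ha3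
    · rw [pow_one] at hφ
      obtain ⟨E, hE⟩ := cyc_m1.exists_equiv hφ
      obtain ⟨F, hF⟩ := cyc_m1.exists_equiv hψ
      exact fun e he => (isComm_blocks (isComm_m11 e he)).prod_congr E F hE hF
    · exfalso
      rcases hφ2 ha with h | h <;>
      · have := congrArg (fun p : F₃[X] => p.eval (-1)) h
        simp [eval_quad] at this
    · exact good_one_big ha3 hφ hφd hψ
  · have hdeg2 : ∀ {q₀ q₁ : F₃}, (∀ x, x * x + q₁ * x + q₀ ≠ 0) → π ^ b = quad q₀ q₁ →
        π = quad q₀ q₁ ∧ b = 1 := by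
      intro q₀ q₁ hq hpb
      have hi : Irreducible (π ^ b) := hpb ▸ irreducible_quad hq
      have hb : b = 1 := by
        by_contra hb
        exact not_irreducible_pow hb hi
      rw [hb, pow_one] at hpb
      exact ⟨hpb, hb⟩
    have key : ∀ (q₁ : F₃) (M A : Matrix (Fin 2) (Fin 2) F₃) (q₁' : F₃),
        (∀ x, x * x + q₁ * x + -1 ≠ 0) → π ^ b = quad (-1) q₁ →
        Cyc (Matrix.toLin' M) (quad (-1) q₁) → Good (Matrix.toLin' (blocks M M)) →
        (∀ x, x * x + q₁' * x + -1 ≠ 0) → Cyc (Matrix.toLin' A) (quad 1 0) →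
        Cyc (Matrix.toLin' (M * A)) (quad (-1) q₁') → Good (φ.prodMap ψ) := by
      intro q₁ M A q₁' hq hpb hM hMM hq' hA hMA
      obtain ⟨hπq, hb⟩ := hdeg2 hq hpb
      subst hπq
      rw [hb, pow_one] at hψ
      have ha : finrank F₃ V = a * 2 := by rw [hmul hφ, natDegree_quad]
      rcases (show a = 1 ∨ 2 ≤ a by omega) with rfl | ha2
      · rw [pow_one] at hφ
        obtain ⟨E, hE⟩ := hM.exists_equiv hφ
        obtain ⟨F, hF⟩ := hM.exists_equiv hψ
        exact fun e he => (isComm_blocks (hMM e he)).prod_congr E F hE hF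
      · exact good_two_big (by omega) hφ hφd M A hM hψ hq' hA hMA
    rcases hψ2 hW with hp | hp
    · exact key 1 rp !![1, 2; 2, 2] 1 (by decide) hp cyc_rp isComm_rp2 (by decide)
        (cyc_quad2 (by decide) (by decide)) (cyc_quad2 (by decide) (by decide))
    · exact key (-1) rm !![1, 1; 1, 2] (-1) (by decide) hp cyc_rm isComm_rm2 (by decide)
        (cyc_quad2 (by decide) (by decide)) (cyc_quad2 (by decide) (by decide))

theorem good_pair' [FiniteDimensional F₃ V] [FiniteDimensional F₃ W] {φ : Module.End F₃ V}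
    {ψ : Module.End F₃ W} (h : Blk φ) (h' : Blk ψ) : Good (φ.prodMap ψ) := by
  rcases le_total (finrank F₃ W) (finrank F₃ V) with hle | hle
  · exact good_pair h h' hle
  · exact fun e he => (good_pair h' h hle e he).swap

/-- A single Jordan block of size two. -/
def One (φ : Module.End F₃ V) : Prop := ∃ c : F₃, c ≠ 0 ∧ Cyc φ (J c)

/-- The blocks of determinant one. -/
def Core (φ : Module.End F₃ V) : Prop := Subsingleton V ∨ One φ ∨ Good φ

theorem Core.conj {φ : Module.End F₃ V} {ψ : Module.End F₃ W} (h : Core φ) (E : V ≃ₗ[F₃] W)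
    (hE : ∀ x, E (φ x) = ψ (E x)) : Core ψ := by
  rcases h with h | ⟨c, hc, h⟩ | h
  · exact Or.inl E.symm.toEquiv.subsingleton
  · exact Or.inr (Or.inl ⟨c, hc, h.of_conj E hE⟩)
  · exact Or.inr (Or.inr (h.conj E hE))

theorem det_one_J {φ : Module.End F₃ V} {c : F₃} (hc : c ≠ 0) (h : Cyc φ (J c)) :
    LinearMap.det φ = 1 := by
  rw [h.det_eq, natDegree_J, J, coeff_zero_eq_eval_zero, eval_pow, eval_sub, eval_X, eval_C, zero_sub]
  rcases cases_ne_zero c hc with rfl | rfl <;> decide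

theorem Core.det_eq [FiniteDimensional F₃ V] {φ : Module.End F₃ V} (h : Core φ) :
    LinearMap.det φ = 1 := by
  rcases h with h | ⟨c, hc, h⟩ | h
  · exact LinearMap.det_eq_one_of_finrank_eq_zero (finrank_zero_of_subsingleton) φ
  · exact det_one_J hc h
  · obtain ⟨α, b, hα, hb, hab⟩ := h 1 one_ne_zero
    have := congrArg LinearMap.det hab
    rwa [map_mul, map_mul, map_mul, hα, hb, mul_one, one_mul, mul_one, eq_comm] at this

theorem core_prod [FiniteDimensional F₃ V] [FiniteDimensional F₃ W] {φ : Module.End F₃ V}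
    {ψ : Module.End F₃ W} (hφ : Core φ) (hψ : Core ψ) : Core (φ.prodMap ψ) := by
  rcases hφ with h | h | h
  · refine hψ.conj (LinearEquiv.ofBijective (LinearMap.inr F₃ V W) ⟨LinearMap.inr_injective,
      fun x => ⟨x.2, Prod.ext (Subsingleton.elim _ _) rfl⟩⟩) fun x => ?_
    exact Prod.ext (Subsingleton.elim _ _) rfl
  all_goals rcases hψ with h' | h' | h'
  case inr.inl.inl | inr.inr.inl =>
    refine Core.conj (φ := φ) (by tauto) (LinearEquiv.ofBijective (LinearMap.inl F₃ V W)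
      ⟨LinearMap.inl_injective, fun x => ⟨x.1, Prod.ext rfl (Subsingleton.elim _ _)⟩⟩) fun x => ?_
    exact Prod.ext rfl (Subsingleton.elim _ _)
  · obtain ⟨c, hc, h⟩ := h
    obtain ⟨c', hc', h'⟩ := h'
    refine Or.inr (Or.inr ?_)
    by_cases hcc : c = c'
    · subst hcc
      refine good_of_two ?_ ((isComm_blocks (isComm_mj2 hc)).prod_of_cyc (cyc_mj hc) (cyc_mj hc) h h')
      simpa using ((isComm_mj hc).of_cyc (cyc_mj hc) h).prod ((isComm_mj hc).of_cyc (cyc_mj hc) h')
    · have hcop : IsCoprime (J c) (J c') := (isCoprime_X_sub_C_of_isUnit_sub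
        (sub_ne_zero.2 hcc).isUnit).pow
      refine good_of_cyc (h.prod h' hcop) ?_ ?_
      · rw [Module.finrank_prod, ← h.2.2.1, ← h'.2.2.1, natDegree_J, natDegree_J]
        norm_num
      · rw [LinearMap.det_prodMap, det_one_J hc h, det_one_J hc' h', one_mul]
  · obtain ⟨c, hc, h⟩ := h
    exact Or.inr (Or.inr fun e he =>
      (h'.prod ((isComm_mj hc).of_cyc (cyc_mj hc) h) (by decide) e he).swap)
  · obtain ⟨c', hc', h'⟩ := h'
    exact Or.inr (Or.inr (h.prod ((isComm_mj hc').of_cyc (cyc_mj hc') h') (by decide)))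
  · exact Or.inr (Or.inr (h.prod (h' 1 one_ne_zero) one_ne_zero))

theorem core_block [FiniteDimensional F₃ V] {φ : Module.End F₃ V} {p : F₃[X]} (hφ : Cyc φ p)
    (hdet : LinearMap.det φ = 1) : Core φ := by
  have hd := hφ.2.2.1
  have hpm := hφ.1
  rcases Nat.lt_or_ge (finrank F₃ V) 3 with hlt | hge
  · interval_cases hn : finrank F₃ V
    · exact Or.inl (finrank_zero_iff.1 hn)
    · have hX : p = X - C 1 := by
        have h0 : p.coeff 0 = -1 := by
          rw [hφ.det_eq, hd, pow_one] at hdet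
          linear_combination -hdet
        rw [hpm.eq_X_add_C hd, h0, C_neg, sub_eq_add_neg]
      have h1 : φ = 1 := by
        have := hφ.aeval_self
        rwa [hX, map_sub, aeval_X, aeval_C, map_one, sub_eq_zero] at this
      refine Or.inr (Or.inr fun e _ => ⟨e • 1, 1, ?_, map_one _, by rw [h1, mul_one, one_mul, one_mul]⟩)
      rw [LinearMap.det_smul, hn, map_one, pow_one, mul_one]
    · have h0 : p.coeff 0 = 1 := by
        rw [hφ.det_eq, hd, neg_one_sq, one_mul] at hdet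
        exact hdet
      have hquad : p = quad 1 (p.coeff 1) := by
        ext i
        rcases i with _ | _ | _ | i
        · simp [quad, h0, coeff_one, coeff_C]
        · simp [quad, coeff_one, coeff_C]
        · simpa [quad, hd, coeff_one, coeff_C] using hpm.coeff_natDegree
        · rw [coeff_eq_zero_of_natDegree_lt (by omega),
            coeff_eq_zero_of_natDegree_lt (by rw [natDegree_quad]; omega)]
      have hJ : ∀ c : F₃, c * c = 1 → p.coeff 1 = -2 * c → p = J c := by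
        intro c hc ha
        rw [hquad, ha, J, quad]
        have : (C c : F₃[X]) * C c = 1 := by rw [← C_mul, hc, C_1]
        rw [C_1, C_mul, C_neg, map_ofNat]
        linear_combination -this
      rcases (show ∀ x : F₃, x = 0 ∨ x = -2 * 1 ∨ x = -2 * -1 by decide) (p.coeff 1) with ha | ha | ha
      · rw [hquad, ha] at hφ
        exact Or.inr (Or.inr fun e he => (isComm_iq e he).of_cyc cyc_iq hφ)
      · exact Or.inr (Or.inl ⟨1, one_ne_zero, hJ 1 (by decide) ha ▸ hφ⟩)
      · exact Or.inr (Or.inl ⟨-1, by decide, hJ (-1) (by decide) ha ▸ hφ⟩)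
  · exact Or.inr (Or.inr (good_of_cyc hφ hge hdet))

/-- The state of a product of blocks. -/
def State {V : Type} [AddCommGroup V] [Module F₃ V] (φ : Module.End F₃ V) : Prop :=
  Core φ ∨ ∃ (U W : Type) (_ : AddCommGroup U) (_ : Module F₃ U) (_ : FiniteDimensional F₃ U)
    (_ : AddCommGroup W) (_ : Module F₃ W) (_ : FiniteDimensional F₃ W) (φ₁ : Module.End F₃ U)
    (χ : Module.End F₃ W) (E : (U × W) ≃ₗ[F₃] V),
      Core φ₁ ∧ Blk χ ∧ ∀ x, E (φ₁.prodMap χ x) = φ (E x)

theorem State.conj {φ : Module.End F₃ V} {ψ : Module.End F₃ W} (h : State φ) (E : V ≃ₗ[F₃] W)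
    (hE : ∀ x, E (φ x) = ψ (E x)) : State ψ := by
  rcases h with h | ⟨U, U', _, _, _, _, _, _, φ₁, χ, F, h1, h2, hF⟩
  · exact Or.inl (h.conj E hE)
  · exact Or.inr ⟨U, U', inferInstance, inferInstance, inferInstance, inferInstance, inferInstance,
      inferInstance, φ₁, χ, F.trans E, h1, h2, fun x => by
        simp only [LinearEquiv.trans_apply, hF, hE]⟩

theorem state_step [FiniteDimensional F₃ V] [FiniteDimensional F₃ W] {φ : Module.End F₃ V}
    {ψ : Module.End F₃ W} (hφ : State φ) (hψ : Core ψ ∨ Blk ψ) : State (φ.prodMap ψ) := by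
  rcases hφ with h | ⟨U, U', _, _, _, _, _, _, φ₁, χ, F, h1, h2, hF⟩
  · rcases hψ with h' | h'
    · exact Or.inl (core_prod h h')
    · exact Or.inr ⟨V, W, inferInstance, inferInstance, inferInstance, inferInstance, inferInstance,
        inferInstance, φ, ψ, LinearEquiv.refl _ _, h, h', fun _ => rfl⟩
  · have hF' : ∀ x, (F.prodCongr (LinearEquiv.refl F₃ W)) ((φ₁.prodMap χ).prodMap ψ x) =
        φ.prodMap ψ ((F.prodCongr (LinearEquiv.refl F₃ W)) x) := fun x => Prod.ext (hF x.1) rfl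
    refine State.conj ?_ _ hF'
    rcases hψ with h' | h'
    · refine Or.inr ⟨U × W, U', inferInstance, inferInstance, inferInstance, inferInstance,
        inferInstance, inferInstance, φ₁.prodMap ψ, χ, ?_, core_prod h1 h', h2, ?_⟩
      · exact
          { toFun := fun x => ((x.1.1, x.2), x.1.2)
            invFun := fun x => ((x.1.1, x.2), x.1.2)
            map_add' := fun _ _ => rfl
            map_smul' := fun _ _ => rfl
            left_inv := fun _ => rfl
            right_inv := fun _ => rfl }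
      · intro x; rfl
    · exact Or.inl ((core_prod h1 (Or.inr (Or.inr (good_pair' h2 h')))).conj
        (LinearEquiv.prodAssoc F₃ U U' W).symm fun _ => rfl)

theorem state_all [FiniteDimensional F₃ V] (φ : Module.End F₃ V) (hφ : LinearMap.det φ ≠ 0) :
    State φ := by
  refine induction_blocks (P := fun {V} _ _ φ => LinearMap.det φ ≠ 0 → State φ) ?_ ?_ ?_ φ hφ
  · intro V W _ _ _ _ φ ψ E hE h hd
    have he : (E.toLinearMap ∘ₗ φ) ∘ₗ E.symm.toLinearMap = ψ := LinearMap.ext fun y => by simp [hE]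
    exact (h (by rwa [← he, LinearMap.comp_assoc, LinearMap.det_conj] at hd)).conj E hE
  · intro V _ _ _ φ _
    exact Or.inl (Or.inl inferInstance)
  · intro V W _ _ _ _ _ _ φ ψ π e h hπ hπm hψ hd
    rw [LinearMap.det_prodMap, mul_ne_zero_iff] at hd
    refine state_step (h hd.1) ?_
    rcases cases_ne_zero _ hd.2 with h1 | h1
    · exact Or.inl (core_block hψ h1)
    · exact Or.inr ⟨π, e, hπ, hπm, hψ, h1⟩

theorem exists_commutator {n : ℕ} (hn : n ≠ 2) (g : Matrix.SpecialLinearGroup (Fin n) F₃) :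
    ∃ a b : Matrix.SpecialLinearGroup (Fin n) F₃, g = a * b * a⁻¹ * b⁻¹ := by
  refine exists_of_isComm g ?_
  have hd : LinearMap.det (Matrix.toLin' g.1) = 1 := by rw [LinearMap.det_toLin', g.2]
  rcases state_all (Matrix.toLin' g.1) (by rw [hd]; exact one_ne_zero) with
    h | ⟨U, W, _, _, _, _, _, _, φ₁, χ, E, h1, ⟨π, e, -, -, -, hχ⟩, hE⟩
  · rcases h with h | ⟨c, -, h⟩ | h
    · exact isComm_of_subsingleton _
    · have := h.2.2.1
      rw [natDegree_J, Module.finrank_fin_fun] at this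
      exact absurd this.symm hn
    · exact h 1 one_ne_zero
  · exfalso
    have he : (E.toLinearMap ∘ₗ φ₁.prodMap χ) ∘ₗ E.symm.toLinearMap = Matrix.toLin' g.1 := by
      refine LinearMap.ext fun y => ?_
      simp only [LinearMap.comp_apply, LinearEquiv.coe_coe, hE, E.apply_symm_apply]
    rw [← he, LinearMap.comp_assoc, LinearMap.det_conj, LinearMap.det_prodMap, h1.det_eq, hχ,
      one_mul] at hd
    exact neg_one_ne_one hd

end CfsgLib.Classical.SmallFieldComm.FieldThree
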