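import Cfsg.Agent.Lib.Classical.SmallFieldComm.Group
import Cfsg.Agent.Lib.Classical.SmallFieldComm.Cyclic
import Cfsg.Agent.Lib.Classical.SmallFieldComm.Glue

/-!
# Combining cyclic blocks
-/

set_option autoImplicit false

universe u

namespace CfsgLib.Classical.SmallFieldComm

open Polynomial Module Matrix

variable {K : Type u} [Field K] {V W Z V' W' : Type u} [AddCommGroup V] [Module K V]
  [AddCommGroup W] [Module K W] [AddCommGroup Z] [Module K Z] [AddCommGroup V'] [Module K V']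
  [AddCommGroup W'] [Module K W']

theorem IsComm.swap {φ : Module.End K V} {ψ : Module.End K W} {e : K}
    (h : IsComm (φ.prodMap ψ) e) : IsComm (ψ.prodMap φ) e :=
  h.conj (LinearEquiv.prodComm K V W) fun _ => rfl

theorem IsComm.assoc {φ : Module.End K V} {ψ : Module.End K W} {χ : Module.End K Z} {e : K}
    (h : IsComm (φ.prodMap (ψ.prodMap χ)) e) : IsComm ((φ.prodMap ψ).prodMap χ) e :=
  h.conj (LinearEquiv.prodAssoc K V W Z).symm fun _ => rfl

theorem IsComm.of_cyc {φ : Module.End K V} {ψ : Module.End K W} {p : K[X]} {e : K}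
    (h : IsComm ψ e) (hψ : Cyc ψ p) (hφ : Cyc φ p) : IsComm φ e := by
  obtain ⟨E, hE⟩ := hψ.exists_equiv hφ
  exact h.conj E hE

theorem IsComm.prod_congr {φ : Module.End K V} {ψ : Module.End K W} {φ' : Module.End K V'}
    {ψ' : Module.End K W'} {e : K} (h : IsComm (φ.prodMap ψ) e) (E : V ≃ₗ[K] V') (F : W ≃ₗ[K] W')
    (hE : ∀ x, E (φ x) = φ' (E x)) (hF : ∀ x, F (ψ x) = ψ' (F x)) : IsComm (φ'.prodMap ψ') e :=
  h.conj (E.prodCongr F) fun x => Prod.ext (hE x.1) (hF x.2)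

theorem IsComm.prod_of_cyc {φ : Module.End K V} {ψ : Module.End K W} {φ' : Module.End K V'}
    {ψ' : Module.End K W'} {p q : K[X]} {e : K} (h : IsComm (φ.prodMap ψ) e) (hφ : Cyc φ p)
    (hψ : Cyc ψ q) (hφ' : Cyc φ' p) (hψ' : Cyc ψ' q) : IsComm (φ'.prodMap ψ') e := by
  obtain ⟨E, hE⟩ := hφ.exists_equiv hφ'
  obtain ⟨F, hF⟩ := hψ.exists_equiv hψ'
  exact h.prod_congr E F hE hF

/-- The block diagonal matrix. -/
def blocks {a b : ℕ} (A : Matrix (Fin a) (Fin a) K) (B : Matrix (Fin b) (Fin b) K) :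
    Matrix (Fin (a + b)) (Fin (a + b)) K :=
  (Matrix.fromBlocks A 0 0 B).submatrix finSumFinEquiv.symm finSumFinEquiv.symm

theorem exists_blocks_equiv {a b : ℕ} (A : Matrix (Fin a) (Fin a) K) (B : Matrix (Fin b) (Fin b) K) :
    ∃ E : (Fin (a + b) → K) ≃ₗ[K] (Fin a → K) × (Fin b → K),
      ∀ x, E (Matrix.toLin' (blocks A B) x) = (Matrix.toLin' A).prodMap (Matrix.toLin' B) (E x) := by
  refine ⟨(LinearEquiv.funCongrLeft K K finSumFinEquiv).trans
    (LinearEquiv.sumArrowLequivProdArrow (Fin a) (Fin b) K K), fun x => ?_⟩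
  refine Prod.ext (funext fun i => ?_) (funext fun i => ?_) <;>
    simp [blocks, Matrix.mulVec, dotProduct, Fin.sum_univ_add, LinearMap.funLeft]

theorem isComm_blocks {a b : ℕ} {A : Matrix (Fin a) (Fin a) K} {B : Matrix (Fin b) (Fin b) K} {e : K}
    (h : IsComm (Matrix.toLin' (blocks A B)) e) :
    IsComm ((Matrix.toLin' A).prodMap (Matrix.toLin' B)) e := by
  obtain ⟨E, hE⟩ := exists_blocks_equiv A B
  exact h.conj E hE

theorem det_model {p : K[X]} (hp : p.Monic) :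
    LinearMap.det (model p) = (-1) ^ p.natDegree * p.coeff 0 :=
  (cyc_model hp).det_eq

theorem cyc_one_model : Cyc (model (1 : K[X])) 1 := cyc_model monic_one

/-- Matrices which are cyclic by inspection. -/
theorem cyc_matrix {n : ℕ} (M : Matrix (Fin n) (Fin n) K) (v : Fin n → K) {p : K[X]} (hp : p.Monic)
    (hd : p.natDegree = n)
    (hind : ∀ c : Fin n → K, ∑ i, c i • ((M ^ (i : ℕ)) *ᵥ v) = 0 → c = 0)
    (h0 : aeval M p = 0) : Cyc (Matrix.toLin' M) p := by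
  have hT : ∀ r : K[X], aeval (Matrix.toLin' M) r = Matrix.toLin' (aeval M r) := fun r =>
    aeval_algHom_apply (Matrix.toLinAlgEquiv' : Matrix (Fin n) (Fin n) K ≃ₐ[K] _).toAlgHom M r
  have hc : Cyc (Matrix.toLin' M) (Matrix.toLin' M).charpoly := by
    refine cyc_charpoly _ (v := v) fun r hr h => ?_
    rw [Module.finrank_fin_fun] at hr
    rw [hT, Matrix.toLin'_apply, aeval_eq_sum_range' hr, Finset.sum_range, Matrix.sum_mulVec] at h
    simp only [smul_mulVec] at h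
    have := hind (fun i => r.coeff i) h
    ext i
    by_cases hi : i < n
    · simpa using congrFun this ⟨i, hi⟩
    · rw [coeff_zero, coeff_eq_zero_of_natDegree_lt (by omega)]
  have hdvd : (Matrix.toLin' M).charpoly ∣ p := by
    obtain ⟨-, -, -, w, hw⟩ := hc
    exact (hw p).1 (by rw [hT, h0, map_zero, LinearMap.zero_apply])
  rwa [eq_of_monic_of_dvd_of_natDegree_le (LinearMap.charpoly_monic _) hp hdvd
    (by rw [LinearMap.charpoly_natDegree, hd, Module.finrank_fin_fun])]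

theorem monic_quad (q₀ q₁ : K) : (quad q₀ q₁).Monic := by unfold quad; monicity!

theorem natDegree_quad (q₀ q₁ : K) : (quad q₀ q₁).natDegree = 2 := by unfold quad; compute_degree!

theorem coeff_quad (q₀ q₁ : K) : (quad q₀ q₁).coeff 0 = q₀ := by simp [quad]

theorem eval_quad (q₀ q₁ x : K) : (quad q₀ q₁).eval x = x * x + q₁ * x + q₀ := by simp [quad, pow_two]

theorem irreducible_quad {q₀ q₁ : K} (h : ∀ x, x * x + q₁ * x + q₀ ≠ 0) :
    Irreducible (quad q₀ q₁) := by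
  rw [irreducible_iff_roots_eq_zero_of_degree_le_three (by rw [natDegree_quad])
    (by rw [natDegree_quad]; omega)]
  refine Multiset.eq_zero_of_forall_notMem fun x hx => h x ?_
  rw [← eval_quad]
  exact (mem_roots (monic_quad q₀ q₁).ne_zero).1 hx

/-- The linear part of a factor. -/
noncomputable def lin (k : ℕ) (t u : K) : K[X] := (X - C t) ^ k * (X - C u)

theorem monic_lin (k : ℕ) (t u : K) : (lin k t u).Monic :=
  ((monic_X_sub_C t).pow k).mul (monic_X_sub_C u)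

theorem coprime_lin_quad {q₀ q₁ : K} (hq : ∀ x, x * x + q₁ * x + q₀ ≠ 0) (k : ℕ) (t u : K) :
    IsCoprime (lin k t u) (quad q₀ q₁) := by
  have h : ∀ c : K, IsCoprime (X - C c) (quad q₀ q₁) := fun c =>
    (irreducible_X_sub_C c).coprime_iff_not_dvd.2 fun hd => hq c (by
      rw [← eval_quad]; exact dvd_iff_isRoot.1 hd)
  exact (h t).pow_left.mul_left (h u)

set_option maxHeartbeats 1000000 in
/-- The factor supplied by the main lemma. -/
theorem exists_factor [Finite K] [FiniteDimensional K V] {φ : Module.End K V} {h : K[X]} (hφ : Cyc φ h)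
    {k : ℕ} (hk : finrank K V = k + 3) {t u q₀ q₁ q₀' q₁' : K} (ht : t ≠ 0) (hu : u ≠ 0)
    (hq : ∀ x, x * x + q₁ * x + q₀ ≠ 0) (hd : LinearMap.det φ * q₀ = q₀') :
    ∃ α : Module.End K V, Cyc α (lin k t u * quad q₀ q₁) ∧
      Cyc (φ * α) (lin k t u * quad q₀' q₁') ∧ HasFix α ∧ LinearMap.det α = t ^ k * u * q₀ := by
  obtain ⟨α, hα, hφα⟩ := exists_cyc_mul hφ hk (p := lin k t u * quad q₀' q₁') ht hu
    (by rw [eval_quad]; exact hq t) (by rw [eval_quad]; exact hq u)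
    ((monic_lin k t u).mul (monic_quad _ _)) (by
      rw [natDegree_mul (monic_lin k t u).ne_zero (monic_quad _ _).ne_zero, natDegree_quad, lin,
        natDegree_mul (pow_ne_zero _ (X_sub_C_ne_zero t)) (X_sub_C_ne_zero u), natDegree_pow,
        natDegree_X_sub_C, natDegree_X_sub_C]
      omega) (by
      rw [mul_coeff_zero, coeff_quad, lin, mul_coeff_zero, coeff_zero_eq_eval_zero, eval_pow,
        coeff_sub, coeff_X_zero, coeff_C_zero, eval_sub, eval_X, eval_C, zero_sub, zero_sub, ← hd]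
      ring)
  refine ⟨α, hα, hφα, ?_, ?_⟩
  · exact hasFix_of_factor (monic_quad _ _) (monic_lin k t u) (coprime_lin_quad hq k t u).symm
      (by rw [mul_comm (quad q₀ q₁) (lin k t u)]; exact hα) (hasFix_model_irreducible (irreducible_quad hq))
  · have hα' : Cyc α (lin k t u * quad q₀ q₁) := hα
    rw [hα'.det_eq, natDegree_mul (monic_lin k t u).ne_zero (monic_quad _ _).ne_zero, natDegree_quad,
      lin, natDegree_mul (pow_ne_zero _ (X_sub_C_ne_zero t)) (X_sub_C_ne_zero u), natDegree_pow,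
      natDegree_X_sub_C, natDegree_X_sub_C, mul_coeff_zero, coeff_quad, mul_coeff_zero,
      coeff_zero_eq_eval_zero, eval_pow, coeff_sub, coeff_X_zero, coeff_C_zero, eval_sub, eval_X,
      eval_C, zero_sub, zero_sub, mul_one, neg_pow t k]
    have e : (-1 : K) ^ k * (-1) ^ k = 1 := by rw [← mul_pow, neg_mul_neg, one_mul, one_pow]
    have e2 : (-1 : K) ^ (k + 1 + 2) = -((-1 : K) ^ k) := by
      rw [pow_succ, pow_succ, pow_succ]; ring
    rw [e2]
    linear_combination (t ^ k * u * q₀) * e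

/-- A single cyclic endomorphism of determinant one. -/
theorem isComm_cyc [Finite K] [FiniteDimensional K V] {φ : Module.End K V} {h : K[X]} (hφ : Cyc φ h)
    {k : ℕ} (hk : finrank K V = k + 3) (hdet : LinearMap.det φ = 1) {t u q₀ q₁ : K} (ht : t ≠ 0)
    (hu : u ≠ 0) (hq : ∀ x, x * x + q₁ * x + q₀ ≠ 0) : IsComm φ (t ^ k * u * q₀) := by
  obtain ⟨α, hα, hφα, hfix, hd⟩ := exists_factor hφ hk (q₀' := q₀) (q₁' := q₁) ht hu hq
    (by rw [hdet, one_mul])
  obtain ⟨E, hE⟩ := hφα.exists_equiv hα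
  exact isComm_of_equiv α hd hfix E hE

theorem isComm_of_exchange {X Y S T : Type u} [AddCommGroup X] [Module K X] [AddCommGroup Y]
    [Module K Y] [AddCommGroup S] [Module K S] [AddCommGroup T] [Module K T] [FiniteDimensional K V]
    [FiniteDimensional K W] {φ α₁ : Module.End K V} {ψ α₂ : Module.End K W} (hfix : HasFix α₁)
    (E₁ : V ≃ₗ[K] X × S) (E₂ : W ≃ₗ[K] Y × T) (F₁ : V ≃ₗ[K] X × T) (F₂ : W ≃ₗ[K] Y × S)
    (mX : Module.End K X) (mY : Module.End K Y) (mS : Module.End K S) (mT : Module.End K T)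
    (hE₁ : ∀ x, E₁ (α₁ x) = mX.prodMap mS (E₁ x)) (hE₂ : ∀ x, E₂ (α₂ x) = mY.prodMap mT (E₂ x))
    (hF₁ : ∀ x, F₁ ((φ * α₁) x) = mX.prodMap mT (F₁ x))
    (hF₂ : ∀ x, F₂ ((ψ * α₂) x) = mY.prodMap mS (F₂ x)) :
    IsComm (φ.prodMap ψ) (LinearMap.det α₁ * LinearMap.det α₂) := by
  let σ : ((X × T) × (Y × S)) ≃ₗ[K] ((X × S) × (Y × T)) :=
    { toFun := fun x => ((x.1.1, x.2.2), (x.2.1, x.1.2))
      invFun := fun x => ((x.1.1, x.2.2), (x.2.1, x.1.2))
      map_add' := fun _ _ => rfl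
      map_smul' := fun _ _ => rfl
      left_inv := fun _ => rfl
      right_inv := fun _ => rfl }
  refine isComm_of_equiv (α₁.prodMap α₂) (LinearMap.det_prodMap α₁ α₂) (hfix.prod_left _)
    (((F₁.prodCongr F₂).trans σ).trans (E₁.prodCongr E₂).symm) fun x => ?_
  apply (E₁.prodCongr E₂).injective
  simp only [LinearEquiv.trans_apply, LinearEquiv.apply_symm_apply]
  have e1 := hF₁ x.1
  have e2 := hF₂ x.2
  simp only [Module.End.mul_apply] at e1 e2
  obtain ⟨z, hz⟩ : ∃ z, z = (E₁.prodCongr E₂).symm (σ ((F₁.prodCongr F₂) x)) := ⟨_, rfl⟩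
  rw [← hz]
  have hz' : (E₁.prodCongr E₂) z = σ ((F₁.prodCongr F₂) x) := by rw [hz, LinearEquiv.apply_symm_apply]
  simp only [LinearEquiv.prodCongr_apply, LinearMap.prodMap_apply, hE₁, hE₂] at hz' ⊢
  have h1 := congrArg Prod.fst hz'
  have h2 := congrArg Prod.snd hz'
  simp only at h1 h2
  rw [h1, h2, e1, e2]
  rfl

/-- Two endomorphisms whose factors change places. -/
theorem isComm_swap [FiniteDimensional K V] [FiniteDimensional K W] {φ : Module.End K V}
    {ψ : Module.End K W} {α₁ : Module.End K V} {α₂ : Module.End K W} {P₁ P₂ A B : K[X]}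
    (hP₁ : P₁.Monic) (hP₂ : P₂.Monic) (hA : A.Monic) (hB : B.Monic) (h1A : IsCoprime P₁ A)
    (h1B : IsCoprime P₁ B) (h2A : IsCoprime P₂ A) (h2B : IsCoprime P₂ B)
    (hα₁ : Cyc α₁ (P₁ * A)) (hφ : Cyc (φ * α₁) (P₁ * B)) (hα₂ : Cyc α₂ (P₂ * B))
    (hψ : Cyc (ψ * α₂) (P₂ * A)) (hfix : HasFix α₁) :
    IsComm (φ.prodMap ψ) (LinearMap.det α₁ * LinearMap.det α₂) := by
  obtain ⟨E₁, hE₁⟩ := hα₁.exists_equiv ((cyc_model hP₁).prod (cyc_model hA) h1A)
  obtain ⟨E₂, hE₂⟩ := hα₂.exists_equiv ((cyc_model hP₂).prod (cyc_model hB) h2B)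
  obtain ⟨F₁, hF₁⟩ := hφ.exists_equiv ((cyc_model hP₁).prod (cyc_model hB) h1B)
  obtain ⟨F₂, hF₂⟩ := hψ.exists_equiv ((cyc_model hP₂).prod (cyc_model hA) h2A)
  exact isComm_of_exchange (α₁ := α₁) (α₂ := α₂) hfix E₁ E₂ F₁ F₂ _ _ _ _ hE₁ hE₂ hF₁ hF₂

/-- Two cyclic endomorphisms of determinant minus one. -/
theorem isComm_pair [Finite K] [FiniteDimensional K V] [FiniteDimensional K W] {φ : Module.End K V}
    {ψ : Module.End K W} {h h' : K[X]} (hφ : Cyc φ h) (hψ : Cyc ψ h') {k l : ℕ}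
    (hk : finrank K V = k + 3) (hl : finrank K W = l + 3) (hφd : LinearMap.det φ = -1)
    (hψd : LinearMap.det ψ = -1) {t u v q₀ q₁ q₁' : K} (ht : t ≠ 0) (hu : u ≠ 0) (hv : v ≠ 0)
    (hq : ∀ x, x * x + q₁ * x + q₀ ≠ 0) (hq' : ∀ x, x * x + q₁' * x + -q₀ ≠ 0) :
    IsComm (φ.prodMap ψ) ((t ^ k * u * q₀) * (t ^ l * v * -q₀)) := by
  obtain ⟨α₁, hα₁, hφα, hfix, hd₁⟩ := exists_factor hφ hk (q₀' := -q₀) (q₁' := q₁') ht hu hq
    (by rw [hφd, neg_one_mul])
  obtain ⟨α₂, hα₂, hψα, -, hd₂⟩ := exists_factor hψ hl (q₀' := q₀) (q₁' := q₁) ht hv hq'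
    (by rw [hψd, neg_one_mul, neg_neg])
  rw [← hd₁, ← hd₂]
  exact isComm_swap (monic_lin k t u) (monic_lin l t v) (monic_quad _ _) (monic_quad _ _)
    (coprime_lin_quad hq k t u) (coprime_lin_quad hq' k t u) (coprime_lin_quad hq l t v)
    (coprime_lin_quad hq' l t v) hα₁ hφα hα₂ hψα hfix

/-- The data of a commutator together with a polynomial annihilating the first factor. -/
def IsCommPoly (φ : Module.End K V) (e : K) (p : K[X]) : Prop :=
  ∃ α b : Module.End K V, LinearMap.det α = e ∧ LinearMap.det b = 1 ∧ α * b = b * (φ * α) ∧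
    aeval α p = 0

theorem IsCommPoly.conj {φ : Module.End K V} {ψ : Module.End K W} {e : K} {p : K[X]}
    (h : IsCommPoly φ e p) (E : V ≃ₗ[K] W) (hE : ∀ x, E (φ x) = ψ (E x)) : IsCommPoly ψ e p := by
  obtain ⟨α, b, hα, hb, hab, hp⟩ := h
  refine ⟨(E.toLinearMap ∘ₗ α) ∘ₗ E.symm.toLinearMap, (E.toLinearMap ∘ₗ b) ∘ₗ E.symm.toLinearMap,
    by rw [LinearMap.comp_assoc, LinearMap.det_conj, hα],
    by rw [LinearMap.comp_assoc, LinearMap.det_conj, hb], LinearMap.ext fun y => ?_,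
    LinearMap.ext fun y => ?_⟩
  · obtain ⟨x, rfl⟩ := E.surjective y
    have h1 := congrArg E (LinearMap.congr_fun hab x)
    simp only [Module.End.mul_apply] at h1
    simp only [Module.End.mul_apply, LinearMap.comp_apply, LinearEquiv.coe_coe,
      LinearEquiv.symm_apply_apply]
    rw [h1, ← hE, E.symm_apply_apply]
  · obtain ⟨x, rfl⟩ := E.surjective y
    rw [← aeval_conj E (φ := α) (fun x => by simp) p x, hp]
    simp

/-- A Jordan block glued to a second endomorphism. -/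
theorem isComm_jordan_glue [FiniteDimensional K V] [FiniteDimensional K W] {φ : Module.End K V}
    {ψ : Module.End K W} (c : K) (a b : ℕ) (hφ : Cyc φ ((X - C c) ^ a * (X - C c) ^ b))
    {α₁ b₁ : Module.End K (AdjoinRoot ((X - C c) ^ a) × W)}
    {α₂ b₂ : Module.End K (AdjoinRoot ((X - C c) ^ b))} {e₁ e₂ : K} {p₁ p₂ : K[X]}
    (hα₁ : LinearMap.det α₁ = e₁) (hα₂ : LinearMap.det α₂ = e₂) (hb₁ : LinearMap.det b₁ = 1)
    (hb₂ : LinearMap.det b₂ = 1)
    (hab₁ : α₁ * b₁ = b₁ * ((model ((X - C c) ^ a)).prodMap ψ * α₁))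
    (hab₂ : α₂ * b₂ = b₂ * (model ((X - C c) ^ b) * α₂)) (hp₁ : aeval α₁ p₁ = 0)
    (hp₂ : aeval (model ((X - C c) ^ b) * α₂) p₂ = 0) (hp : IsCoprime p₁ p₂) :
    IsComm (φ.prodMap ψ) (e₁ * e₂) := by
  set P := (X - C c) ^ a with hP
  set Q := (X - C c) ^ b with hQ
  have hPm : P.Monic := (monic_X_sub_C c).pow a
  have hQm : Q.Monic := (monic_X_sub_C c).pow b
  have hfP : Module.Finite K (AdjoinRoot P) := (AdjoinRoot.powerBasis hPm.ne_zero).finite
  have hfQ : Module.Finite K (AdjoinRoot Q) := (AdjoinRoot.powerBasis hQm.ne_zero).finite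
  obtain ⟨-, -, -, v, hv⟩ := id hφ
  have hd := hφ.2.2.1
  let ev : K[X] →ₗ[K] V := evalAt φ v
  have hker : ∀ r, ev r = 0 ↔ P * Q ∣ r := hv
  -- the two maps
  let ι₀ : K[X] →ₗ[K] V := ev ∘ₗ LinearMap.mulRight K Q
  have hι₀ : (Ideal.span {P}).restrictScalars K ≤ LinearMap.ker ι₀ := by
    intro r hr
    obtain ⟨s, rfl⟩ := Ideal.mem_span_singleton.1 hr
    exact (hker _).2 ⟨s, show P * s * Q = P * Q * s by ring⟩
  let ι₁ : AdjoinRoot P →ₗ[K] V :=
    (Submodule.liftQ ((Ideal.span {P}).restrictScalars K) ι₀ hι₀) ∘ₗ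
      ((Submodule.Quotient.restrictScalarsEquiv K (Ideal.span {P})).symm).toLinearMap
  have hι₁ : ∀ r, ι₁ (AdjoinRoot.mk P r) = aeval φ (r * Q) v := fun r => rfl
  have hev : Function.Surjective ev := by
    intro x
    have hsmall : ∀ r : K[X], r.natDegree < (P * Q).natDegree → aeval φ r v = 0 → r = 0 := by
      intro r hr h
      by_contra h0
      exact absurd (natDegree_le_of_dvd ((hv r).1 h) h0) hr.not_ge
    obtain ⟨r, hr⟩ := (bijective_of (hPm.mul hQm) hd hsmall).2 x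
    exact ⟨r, hr⟩
  have hle : LinearMap.ker ev ≤ LinearMap.ker
      ((AdjoinRoot.mkₐ Q : K[X] →ₐ[K] AdjoinRoot Q).toLinearMap) := by
    intro r hr
    exact AdjoinRoot.mk_eq_zero.2 ((dvd_mul_left Q P).trans ((hker r).1 hr))
  obtain ⟨π₁, hπ₁⟩ : ∃ π₁ : V →ₗ[K] AdjoinRoot Q, ∀ r, π₁ (ev r) = AdjoinRoot.mk Q r := by
    refine ⟨(Submodule.liftQ _ _ hle) ∘ₗ (ev.quotKerEquivOfSurjective hev).symm.toLinearMap,
      fun r => ?_⟩
    have : (ev.quotKerEquivOfSurjective hev).symm (ev r) = Submodule.Quotient.mk r := by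
      rw [LinearEquiv.symm_apply_eq]; rfl
    simp [this]
  refine isComm_extension (ι₁.prodMap LinearMap.id) (π₁ ∘ₗ LinearMap.fst K V W) ?_ ?_ ?_ ?_ ?_
    hα₁ hα₂ hb₁ hb₂ hab₁ hab₂ hp₁ hp₂ hp
  · intro x y h
    refine Prod.ext ?_ (congrArg Prod.snd h :)
    refine (injective_iff_map_eq_zero ι₁).2 (fun z hz => ?_) (congrArg Prod.fst h :)
    obtain ⟨r, rfl⟩ := AdjoinRoot.mk_surjective z
    rw [hι₁, hv] at hz
    rw [AdjoinRoot.mk_eq_zero]
    exact (mul_dvd_mul_iff_right hQm.ne_zero).1 hz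
  · intro z
    obtain ⟨r, rfl⟩ := AdjoinRoot.mk_surjective z
    exact ⟨(ev r, 0), hπ₁ r⟩
  · intro x
    constructor
    · intro hx
      obtain ⟨r, hr⟩ := hev x.1
      have : π₁ (ev r) = 0 := by rw [hr]; exact hx
      rw [hπ₁, AdjoinRoot.mk_eq_zero] at this
      obtain ⟨s, rfl⟩ := this
      exact ⟨(AdjoinRoot.mk P s, x.2), Prod.ext
        ((hι₁ s).trans ((congrArg (fun z => aeval φ z v) (mul_comm s Q)).trans hr)) rfl⟩
    · rintro ⟨⟨z, w⟩, rfl⟩
      obtain ⟨r, rfl⟩ := AdjoinRoot.mk_surjective z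
      show π₁ (ι₁ (AdjoinRoot.mk P r)) = 0
      rw [hι₁]
      exact (hπ₁ (r * Q)).trans (AdjoinRoot.mk_eq_zero.2 (dvd_mul_left _ _))
  · intro x
    obtain ⟨r, hr⟩ := AdjoinRoot.mk_surjective x.1
    refine Prod.ext ?_ rfl
    show φ (ι₁ x.1) = ι₁ (model P x.1)
    rw [← hr, show model P (AdjoinRoot.mk P r) = AdjoinRoot.mk P (X * r) from (map_mul _ _ _).symm,
      hι₁, hι₁, mul_assoc, map_mul (aeval φ) X, aeval_X, Module.End.mul_apply]
  · intro x
    obtain ⟨r, hr⟩ := hev x.1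
    show π₁ (φ x.1) = model Q (π₁ x.1)
    rw [← hr, hπ₁, show φ (ev r) = ev (X * r) by
      show φ (aeval φ r v) = aeval φ (X * r) v
      rw [map_mul, aeval_X, Module.End.mul_apply], hπ₁]
    exact map_mul _ _ _

end CfsgLib.Classical.SmallFieldComm
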