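import Cfsg.Agent.Lib.Classical.SmallFieldComm.Group
import Cfsg.Agent.Lib.Classical.SmallFieldComm.Cyclic
import Cfsg.Agent.Lib.Classical.RegularUnipotentProduct.Regular

/-!
# Triangular matrices which are cyclic
-/

set_option autoImplicit false

universe u

namespace CfsgLib.Classical.SmallFieldComm

open Polynomial Module Matrix CfsgLib.Classical.Sourour CfsgLib.Classical.UnipotentGen
  CfsgLib.Classical.RegularUnipotentProduct

variable {K : Type u} [Field K] {V W : Type u} [AddCommGroup V] [Module K V] [AddCommGroup W]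
  [Module K W] {m : ℕ}

/-- Adding an eigenvalue which is no root. -/
theorem cyc_extend [FiniteDimensional K V] {φ : Module.End K V} {ψ : Module.End K W} {p : K[X]}
    {c : K} (hψ : Cyc ψ p) (hc : p.eval c ≠ 0) (ι : W →ₗ[K] V) (hι : Function.Injective ι)
    (hint : ∀ w, φ (ι w) = ι (ψ w)) {e : V} (he : φ e = c • e) (hne : ∀ w, ι w ≠ e)
    (hfr : finrank K V = finrank K W + 1) : Cyc φ ((X - C c) * p) := by
  obtain ⟨hp, hW, hd, w, hw⟩ := hψ
  refine ⟨(monic_X_sub_C c).mul hp, inferInstance, ?_, e + ι w, fun r => ?_⟩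
  · rw [natDegree_mul (X_sub_C_ne_zero c) hp.ne_zero, natDegree_X_sub_C, hd, hfr, add_comm]
  have he' : aeval φ r e = r.eval c • e := by
    induction r using Polynomial.induction_on' with
    | add r s hr hs => simp [hr, hs, add_smul]
    | monomial n a =>
      have hpow : ∀ n : ℕ, (φ ^ n) e = c ^ n • e := by
        intro n
        induction n with
        | zero => simp
        | succ n ih => rw [pow_succ', Module.End.mul_apply, ih, map_smul, he, smul_smul, pow_succ]
      simp [aeval_monomial, hpow, smul_smul, mul_comm]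
  have hw' : aeval φ r (ι w) = ι (aeval ψ r w) := by
    clear he'
    induction r using Polynomial.induction_on' with
    | add r s hr hs => simp [hr, hs]
    | monomial n a =>
      have hpow : ∀ n : ℕ, (φ ^ n) (ι w) = ι ((ψ ^ n) w) := by
        intro n
        induction n with
        | zero => simp
        | succ n ih => rw [pow_succ', pow_succ', Module.End.mul_apply, Module.End.mul_apply, ih, hint]
      simp [aeval_monomial, hpow]
  rw [map_add, he', hw']
  have hsplit : r.eval c • e + ι (aeval ψ r w) = 0 ↔ r.eval c = 0 ∧ aeval ψ r w = 0 := by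
    refine ⟨fun h => ?_, fun h => by rw [h.1, h.2, zero_smul, map_zero, add_zero]⟩
    have h0 : r.eval c = 0 := by
      by_contra h0
      refine hne (-(r.eval c)⁻¹ • aeval ψ r w) ?_
      rw [map_smul, eq_neg_of_add_eq_zero_right h, neg_smul, smul_neg, neg_neg, inv_smul_smul₀ h0]
    exact ⟨h0, hι (by simpa [h0] using h)⟩
  rw [hsplit, hw]
  have hcop : IsCoprime (X - C c) p :=
    (irreducible_X_sub_C c).coprime_iff_not_dvd.2 fun hdvd => hc (dvd_iff_isRoot.1 hdvd)
  exact ⟨fun h => hcop.mul_dvd (dvd_iff_isRoot.2 h.1) h.2,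
    fun h => ⟨dvd_iff_isRoot.1 ((dvd_mul_right _ _).trans h), (dvd_mul_left _ _).trans h⟩⟩

theorem cyc_of_sim {A B : Matrix (Fin (m + 1)) (Fin (m + 1)) K} {p : K[X]} (h : Sim A B)
    (hB : Cyc (Matrix.toLin' B) p) : Cyc (Matrix.toLin' A) p := by
  obtain ⟨P, hP, hAP⟩ := h
  refine hB.of_conj (Matrix.toLinearEquiv' P
    (Matrix.invertibleOfIsUnitDet P (isUnit_iff_ne_zero.2 hP))) fun x => ?_
  show P *ᵥ (B *ᵥ x) = A *ᵥ (P *ᵥ x)
  rw [mulVec_mulVec, mulVec_mulVec, hAP]

/-- The standard regular unipotent is cyclic. -/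
theorem cyc_std : Cyc (Matrix.toLin' (std m K)) (Matrix.toLin' (std m K)).charpoly := by
  refine cyc_charpoly _ (v := Pi.single 0 1) fun r hr h => ?_
  rw [Module.finrank_fin_fun] at hr
  have hlo : ∀ i j : Fin (m + 1), (std m K) i j = (if i = j then 1 else 0) +
      (if i.val = j.val + 1 then 1 else 0) := fun i j => by
    simp [Matrix.add_apply, Matrix.one_apply, loN]
  have key : ∀ n : ℕ, ∀ hn : n < m + 1,
      (∀ j : Fin (m + 1), n < j.val → ((Matrix.toLin' (std m K)) ^ n) (Pi.single 0 1) j = 0) ∧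
      ((Matrix.toLin' (std m K)) ^ n) (Pi.single 0 1) ⟨n, hn⟩ = 1 := by
    intro n
    induction n with
    | zero =>
      intro hn
      refine ⟨fun j hj => ?_, by simp⟩
      rw [pow_zero, Module.End.one_apply, Pi.single_eq_of_ne (fun e => by simp [e] at hj)]
    | succ n ih =>
      intro hn
      obtain ⟨h1, h2⟩ := ih (by omega)
      set v := ((Matrix.toLin' (std m K)) ^ n) (Pi.single 0 1)
      have hstep : ∀ j : Fin (m + 1), ((Matrix.toLin' (std m K)) ^ (n + 1)) (Pi.single 0 1) j =
          ∑ l, std m K j l * v l := fun j => by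
        rw [pow_succ', Module.End.mul_apply, Matrix.toLin'_apply]
        rfl
      refine ⟨fun j hj => ?_, ?_⟩
      · rw [hstep]
        refine Finset.sum_eq_zero fun l _ => ?_
        by_cases hl : n < l.val
        · rw [h1 l hl, mul_zero]
        · rw [hlo, if_neg (fun e => by subst e; omega), if_neg (by omega), add_zero, zero_mul]
      · rw [hstep, Finset.sum_eq_single (⟨n, by omega⟩ : Fin (m + 1))]
        · rw [h2, hlo, if_neg (by simp [Fin.ext_iff]), if_pos rfl, zero_add, mul_one]
        · intro l _ hl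
          by_cases hl' : n < l.val
          · rw [h1 l hl', mul_zero]
          · have : l.val ≠ n := fun e => hl (Fin.ext e)
            rw [hlo, if_neg (fun e => by subst e; simp at hl'), if_neg (by simp only; omega),
              add_zero, zero_mul]
        · simp
  by_contra hne
  rw [aeval_eq_sum_range, LinearMap.sum_apply] at h
  have h1 := congrFun h ⟨r.natDegree, hr⟩
  rw [Finset.sum_apply, Pi.zero_apply, Finset.sum_range_succ, Finset.sum_eq_zero, zero_add,
    LinearMap.smul_apply, Pi.smul_apply, (key _ hr).2, smul_eq_mul, mul_one] at h1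
  · exact hne (leadingCoeff_eq_zero.1 h1)
  · intro i hi
    rw [Finset.mem_range] at hi
    rw [LinearMap.smul_apply, Pi.smul_apply, (key i (by omega)).1 _ hi, smul_zero]

theorem eval_charpoly_std_ne_zero {c : K} (hc : c ≠ 1) :
    (Matrix.toLin' (std m K)).charpoly.eval c ≠ 0 := by
  rw [Matrix.charpoly_toLin', Matrix.eval_charpoly, det_of_isLowerTriangular]
  · refine Finset.prod_ne_zero_iff.2 fun i _ => ?_
    simp [Matrix.one_apply, loN, sub_eq_zero, hc]
  · intro i j hij
    have : i < j := hij
    simp [Matrix.one_apply, loN, this.ne, show ¬ i.val = j.val + 1 by omega]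

/-- The first column cleared. -/
theorem cyc_lower (M : Matrix (Fin (m + 1)) (Fin (m + 1)) K) (h0 : ∀ j : Fin m, M 0 j.succ = 0)
    {p : K[X]} (hp : Cyc (Matrix.toLin' (M.submatrix Fin.succ Fin.succ)) p)
    (hc : p.eval (M 0 0) ≠ 0) : Cyc (Matrix.toLin' M) ((X - C (M 0 0)) * p) := by
  set D := M.submatrix Fin.succ Fin.succ with hD
  set c := M 0 0
  set col : Fin m → K := fun i => M i.succ 0
  have hdet : (c • (1 : Matrix (Fin m) (Fin m) K) - D).det ≠ 0 := by
    have e := hp.charpoly_eq
    rw [Matrix.charpoly_toLin'] at e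
    rw [← e, Matrix.eval_charpoly, Matrix.scalar_apply] at hc
    simpa [Matrix.smul_one_eq_diagonal] using hc
  set y := (c • (1 : Matrix (Fin m) (Fin m) K) - D)⁻¹ *ᵥ col with hy
  have hy' : D *ᵥ y + col = c • y := by
    have e : (c • (1 : Matrix (Fin m) (Fin m) K) - D) *ᵥ y = col := by
      rw [hy, mulVec_mulVec, Matrix.mul_nonsing_inv _ (isUnit_iff_ne_zero.2 hdet), one_mulVec]
    rw [← e, sub_mulVec, smul_mulVec, one_mulVec]
    abel
  let ι : (Fin m → K) →ₗ[K] (Fin (m + 1) → K) :=
    { toFun := fun w => Fin.cons 0 w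
      map_add' := fun v w => by funext i; refine Fin.cases ?_ (fun i => ?_) i <;> simp
      map_smul' := fun a w => by funext i; refine Fin.cases ?_ (fun i => ?_) i <;> simp }
  refine cyc_extend hp hc ι (fun v w h => funext fun i => by simpa [ι] using congrFun h i.succ)
    (fun w => ?_) (e := Fin.cons 1 y) ?_ (fun w h => zero_ne_one (α := K) (by simpa [ι] using congrFun h 0))
    (by simp)
  · show M *ᵥ Fin.cons 0 w = Fin.cons 0 (D *ᵥ w)
    funext i
    refine Fin.cases ?_ (fun i => ?_) i <;>
      simp [mulVec, dotProduct, Fin.sum_univ_succ (n := m), h0, hD]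
  · show M *ᵥ Fin.cons 1 y = c • Fin.cons 1 y
    funext i
    refine Fin.cases ?_ (fun i => ?_) i
    · simp [mulVec, dotProduct, Fin.sum_univ_succ (n := m), h0, c]
    · have := congrFun hy' i
      simp [mulVec, dotProduct, col, hD] at this ⊢
      simp [Fin.sum_univ_succ (n := m)]
      linear_combination this

/-- The first row cleared. -/
theorem cyc_upper (M : Matrix (Fin (m + 1)) (Fin (m + 1)) K) (h0 : ∀ i : Fin m, M i.succ 0 = 0)
    {p : K[X]} (hp : Cyc (Matrix.toLin' (M.submatrix Fin.succ Fin.succ)) p)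
    (hc : p.eval (M 0 0) ≠ 0) : Cyc (Matrix.toLin' M) ((X - C (M 0 0)) * p) := by
  set D := M.submatrix Fin.succ Fin.succ with hD
  set c := M 0 0
  set row : Fin m → K := fun j => M 0 j.succ
  have hdet : (D - c • (1 : Matrix (Fin m) (Fin m) K)).det ≠ 0 := by
    have e := hp.charpoly_eq
    rw [Matrix.charpoly_toLin'] at e
    rw [← e, Matrix.eval_charpoly, Matrix.scalar_apply] at hc
    rw [← neg_sub, Matrix.det_neg]
    refine mul_ne_zero (pow_ne_zero _ (neg_ne_zero.2 one_ne_zero)) ?_
    simpa [Matrix.smul_one_eq_diagonal] using hc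
  set z := row ᵥ* (D - c • (1 : Matrix (Fin m) (Fin m) K))⁻¹ with hz
  have hz' : z ᵥ* D = c • z + row := by
    have e : z ᵥ* (D - c • (1 : Matrix (Fin m) (Fin m) K)) = row := by
      rw [hz, vecMul_vecMul, Matrix.nonsing_inv_mul _ (isUnit_iff_ne_zero.2 hdet), vecMul_one]
    rw [← e, vecMul_sub, vecMul_smul, vecMul_one]
    abel
  let ι : (Fin m → K) →ₗ[K] (Fin (m + 1) → K) :=
    { toFun := fun w => Fin.cons (z ⬝ᵥ w) w
      map_add' := fun v w => by
        funext i; refine Fin.cases ?_ (fun i => ?_) i <;> simp [dotProduct_add]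
      map_smul' := fun a w => by
        funext i; refine Fin.cases ?_ (fun i => ?_) i <;> simp [dotProduct_smul] }
  refine cyc_extend hp hc ι (fun v w h => funext fun i => by simpa [ι] using congrFun h i.succ)
    (fun w => ?_) (e := Pi.single 0 1) ?_ (fun w h => ?_) (by simp)
  · show M *ᵥ Fin.cons (z ⬝ᵥ w) w = Fin.cons (z ⬝ᵥ (D *ᵥ w)) (D *ᵥ w)
    funext i
    refine Fin.cases ?_ (fun i => ?_) i
    · rw [Fin.cons_zero, dotProduct_mulVec, hz', add_dotProduct, smul_dotProduct, smul_eq_mul]
      simp [mulVec, dotProduct, Fin.sum_univ_succ (n := m), c, row]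
    · simp [mulVec, dotProduct, Fin.sum_univ_succ (n := m), h0, hD]
  · show M *ᵥ Pi.single 0 1 = c • Pi.single 0 1
    funext i
    refine Fin.cases ?_ (fun i => ?_) i <;> simp [c, h0]
  · have hw : w = 0 := funext fun i => by simpa [ι] using congrFun h i.succ
    subst hw
    exact zero_ne_one (α := K) (by simpa [ι] using congrFun h 0)

theorem upReg_inv {U : Matrix (Fin (m + 1)) (Fin (m + 1)) K} (hU : UpReg U) : UpReg U⁻¹ := by
  have hdet : U.det = 1 := by
    rw [det_of_isUpperTriangular (fun i j h => (hU i j).1 h)]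
    exact Finset.prod_eq_one fun i _ => (hU i i).2.1 rfl
  have hu : IsUnit U.det := by rw [hdet]; exact isUnit_one
  have := Matrix.invertibleOfIsUnitDet U hu
  have htri : BlockTriangular U⁻¹ id :=
    Matrix.blockTriangular_inv_of_blockTriangular (fun i j h => (hU i j).1 h)
  have hdiag : ∀ i, U⁻¹ i i = 1 := by
    intro i
    have h := congrFun (congrFun (Matrix.mul_nonsing_inv U hu) i) i
    rw [Matrix.mul_apply, Finset.sum_eq_single i, Matrix.one_apply_eq, (hU i i).2.1 rfl,
      one_mul] at h
    · exact h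
    · intro l _ hl
      rcases lt_or_gt_of_ne hl with hl | hl
      · rw [(hU i l).1 hl, zero_mul]
      · rw [htri hl, mul_zero]
    · simp
  refine fun i j => ⟨fun h => htri h, fun h => h ▸ hdiag i, fun h => ?_⟩
  have e := congrFun (congrFun (Matrix.mul_nonsing_inv U hu) i) j
  rw [Matrix.mul_apply, Finset.sum_eq_add i j (fun h' => by subst h'; omega),
    Matrix.one_apply_ne (fun h' => by subst h'; omega), (hU i i).2.1 rfl, one_mul, hdiag, mul_one] at e
  · intro h0
    rw [h0, zero_add] at e
    exact (hU i j).2.2 h e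
  · rintro l - ⟨h1, h2⟩
    rcases Nat.lt_or_ge l.val i.val with hl | hl
    · rw [(hU i l).1 hl, zero_mul]
    · have : l.val ≠ i.val := fun e => h1 (Fin.ext e)
      have : l.val ≠ j.val := fun e => h2 (Fin.ext e)
      rw [htri (show j < l from Fin.lt_def.2 (by omega)), mul_zero]
  · simp
  · simp

end CfsgLib.Classical.SmallFieldComm
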