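import Cfsg.Agent.Lib.Classical.SmallFieldComm.Tools
import Cfsg.Agent.Lib.Classical.SmallFieldComm.Decomp

/-!
# Every element of `GL_n(2)` is a commutator for `n ≥ 3`
-/

set_option autoImplicit false

namespace CfsgLib.Classical.SmallFieldComm.FieldTwo

open Polynomial Module Matrix

local notation "F₂" => ZMod 2

theorem eq_one_of_ne_zero : ∀ x : F₂, x ≠ 0 → x = 1 := by decide

theorem det_eq_one {n : ℕ} {A B : Matrix (Fin n) (Fin n) F₂} (h : A * B = 1) : A.det = 1 :=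
  eq_one_of_ne_zero _ fun h0 => by simpa [h0] using congrArg Matrix.det h

theorem wit {n : ℕ} {G : Matrix (Fin n) (Fin n) F₂} (A A₁ B B₁ : Matrix (Fin n) (Fin n) F₂)
    (hA : A * A₁ = 1) (hB : B * B₁ = 1) (h : A * B = B * (G * A)) : IsComm (Matrix.toLin' G) 1 :=
  isComm_toLin' (det_eq_one hA) (det_eq_one hB) h

/-- The polynomial of a Jordan block of size two. -/
noncomputable def J : F₂[X] := (X - C 1) ^ 2

def j2 : Matrix (Fin 2) (Fin 2) F₂ := !![0, 1; 1, 0]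
def j3 : Matrix (Fin 3) (Fin 3) F₂ := !![0, 0, 1; 1, 0, 1; 0, 1, 1]
def j4 : Matrix (Fin 4) (Fin 4) F₂ := !![0, 0, 0, 1; 1, 0, 0, 0; 0, 1, 0, 0; 0, 0, 1, 0]

theorem monic_jordan (n : ℕ) : ((X - C 1 : F₂[X]) ^ n).Monic := (monic_X_sub_C 1).pow n

theorem natDegree_jordan (n : ℕ) : ((X - C 1 : F₂[X]) ^ n).natDegree = n := by
  rw [natDegree_pow, natDegree_X_sub_C, mul_one]

theorem cyc_j2 : Cyc (Matrix.toLin' j2) J := by
  refine cyc_matrix j2 ![1, 0] (monic_jordan 2) (natDegree_jordan 2) (by decide) ?_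
  simp only [J, map_pow, map_sub, aeval_X, aeval_C, map_one]
  decide

theorem cyc_j3 : Cyc (Matrix.toLin' j3) ((X - C 1) ^ 3) := by
  refine cyc_matrix j3 ![1, 0, 0] (monic_jordan 3) (natDegree_jordan 3) (by decide) ?_
  simp only [map_pow, map_sub, aeval_X, aeval_C, map_one]
  decide

theorem cyc_j4 : Cyc (Matrix.toLin' j4) ((X - C 1) ^ 4) := by
  refine cyc_matrix j4 ![1, 0, 0, 0] (monic_jordan 4) (natDegree_jordan 4) (by decide) ?_
  simp only [map_pow, map_sub, aeval_X, aeval_C, map_one]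
  decide

def q2 : Matrix (Fin 2) (Fin 2) F₂ := !![0, 1; 1, 1]

theorem cyc_q2 : Cyc (Matrix.toLin' q2) (quad 1 1) := by
  refine cyc_matrix q2 ![1, 0] (monic_quad _ _) (natDegree_quad _ _) (by decide) ?_
  simp only [quad, map_add, map_mul, map_pow, aeval_X, aeval_C, map_one, one_mul]
  decide

theorem isComm_q2 : IsComm (Matrix.toLin' q2) 1 :=
  wit !![0, 1; 1, 1] !![1, 1; 1, 0] !![1, 0; 1, 1] !![1, 0; 1, 1] (by decide) (by decide) (by decide)

theorem w_t : IsComm (Matrix.toLin' (blocks j2 (1 : Matrix (Fin 1) (Fin 1) F₂))) 1 :=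
  wit !![1, 0, 1; 0, 1, 1; 0, 1, 0] !![1, 1, 1; 0, 0, 1; 0, 1, 1] !![0, 0, 1; 1, 1, 1; 0, 1, 1]
    !![0, 1, 1; 1, 0, 1; 1, 0, 0] (by decide) (by decide) (by decide)

theorem w_22 : IsComm (Matrix.toLin' (blocks j2 j2)) 1 :=
  wit !![1, 0, 1, 0; 0, 1, 0, 0; 1, 0, 0, 0; 0, 1, 1, 1]
    !![0, 0, 1, 0; 0, 1, 0, 0; 1, 0, 1, 0; 1, 1, 1, 1]
    !![0, 0, 1, 0; 1, 0, 1, 1; 0, 1, 0, 1; 1, 1, 1, 1]
    !![1, 0, 1, 1; 0, 1, 0, 1; 1, 0, 0, 0; 0, 1, 1, 1] (by decide) (by decide) (by decide)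

theorem w_222 : IsComm (Matrix.toLin' (blocks (blocks j2 j2) j2)) 1 :=
  wit !![0, 1, 0, 0, 0, 1; 0, 0, 0, 0, 1, 1; 1, 1, 1, 1, 0, 0; 1, 1, 1, 0, 1, 0; 0, 0, 0, 1, 0, 0; 0, 0, 1, 0, 0, 0]
    !![1, 1, 0, 1, 0, 1; 1, 1, 1, 1, 1, 0; 0, 0, 0, 0, 0, 1; 0, 0, 0, 0, 1, 0; 0, 0, 1, 1, 1, 0; 0, 1, 1, 1, 1, 0]
    !![0, 1, 1, 0, 0, 1; 1, 0, 0, 1, 1, 1; 1, 1, 1, 0, 1, 0; 1, 0, 0, 1, 0, 0; 1, 1, 1, 0, 1, 1; 0, 0, 1, 0, 0, 0]
    !![1, 1, 1, 1, 0, 0; 1, 0, 1, 0, 1, 1; 0, 0, 0, 0, 0, 1; 1, 1, 1, 0, 0, 0; 0, 1, 1, 1, 1, 0; 0, 0, 1, 0, 1, 0]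
    (by decide) (by decide) (by decide)

theorem w_32 : IsComm (Matrix.toLin' (blocks j3 j2)) 1 :=
  wit !![0, 0, 1, 1, 0; 0, 1, 0, 0, 0; 1, 0, 0, 0, 0; 0, 0, 1, 0, 0; 0, 0, 1, 1, 1]
    !![0, 0, 1, 0, 0; 0, 1, 0, 0, 0; 0, 0, 0, 1, 0; 1, 0, 0, 1, 0; 1, 0, 0, 0, 1]
    !![1, 1, 1, 1, 0; 1, 0, 0, 1, 1; 1, 1, 1, 0, 0; 0, 0, 1, 0, 1; 1, 0, 1, 0, 1]
    !![0, 0, 0, 1, 1; 1, 1, 0, 1, 0; 1, 1, 1, 0, 1; 1, 0, 1, 0, 0; 1, 1, 1, 1, 1]
    (by decide) (by decide) (by decide)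

theorem w_42 : IsComm (Matrix.toLin' (blocks j4 j2)) 1 :=
  wit !![1, 0, 1, 0, 0, 0; 0, 1, 0, 1, 1, 1; 1, 0, 0, 0, 0, 0; 0, 0, 0, 0, 1, 0; 0, 0, 1, 0, 0, 1; 0, 1, 1, 0, 0, 1]
    !![0, 0, 1, 0, 0, 0; 0, 0, 0, 0, 1, 1; 1, 0, 1, 0, 0, 0; 1, 1, 1, 1, 0, 1; 0, 0, 0, 1, 0, 0; 1, 0, 1, 0, 1, 0]
    !![0, 1, 0, 0, 1, 0; 1, 1, 0, 0, 1, 1; 1, 0, 0, 0, 1, 1; 1, 1, 1, 0, 1, 1; 1, 0, 1, 1, 0, 1; 0, 1, 1, 1, 1, 1]
    !![1, 0, 0, 0, 1, 1; 0, 1, 1, 0, 0, 0; 0, 1, 0, 1, 0, 0; 1, 0, 0, 1, 1, 0; 1, 1, 1, 0, 0, 0; 0, 1, 0, 0, 1, 1]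
    (by decide) (by decide) (by decide)

/-- The irreducible quartic. -/
noncomputable def quartic : F₂[X] := X ^ 4 + X + 1

theorem w_22p : IsCommPoly (Matrix.toLin' (blocks j2 j2)) 1 quartic := by
  refine ⟨Matrix.toLin' !![0, 1, 1, 1; 1, 1, 0, 0; 1, 0, 0, 0; 1, 1, 0, 1],
    Matrix.toLin' !![1, 1, 1, 0; 1, 1, 0, 1; 1, 1, 1, 1; 0, 1, 0, 0], ?_, ?_, ?_, ?_⟩
  · rw [LinearMap.det_toLin']
    exact det_eq_one (B := !![0, 0, 1, 0; 0, 1, 1, 0; 1, 0, 1, 1; 0, 1, 0, 1]) (by decide)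
  · rw [LinearMap.det_toLin']
    exact det_eq_one (B := !![1, 1, 1, 1; 0, 0, 0, 1; 0, 1, 1, 0; 1, 0, 1, 0]) (by decide)
  · simp only [Module.End.mul_eq_comp, ← Matrix.toLin'_mul]
    congr 1
    decide
  · rw [show Matrix.toLin' (!![0, 1, 1, 1; 1, 1, 0, 0; 1, 0, 0, 0; 1, 1, 0, 1] : Matrix _ _ F₂) =
        (Matrix.toLinAlgEquiv' : Matrix (Fin 4) (Fin 4) F₂ ≃ₐ[F₂] _).toAlgHom _ from rfl,
      aeval_algHom_apply, quartic]
    simp only [map_add, map_pow, aeval_X, map_one]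
    rw [← map_pow, ← map_add]
    conv_rhs => rw [← map_zero (Matrix.toLinAlgEquiv' : Matrix (Fin 4) (Fin 4) F₂ ≃ₐ[F₂] _).toAlgHom]
    rw [← map_one (Matrix.toLinAlgEquiv' : Matrix (Fin 4) (Fin 4) F₂ ≃ₐ[F₂] _).toAlgHom, ← map_add]
    congr 1
    decide

variable {V W Z : Type} [AddCommGroup V] [Module F₂ V] [AddCommGroup W] [Module F₂ W]
  [AddCommGroup Z] [Module F₂ Z]

theorem det_end_eq_one [FiniteDimensional F₂ V] {φ : Module.End F₂ V} (h : LinearMap.det φ ≠ 0) :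
    LinearMap.det φ = 1 := eq_one_of_ne_zero _ h

theorem isComm_of_three [FiniteDimensional F₂ V] {φ : Module.End F₂ V} {h : F₂[X]} (hφ : Cyc φ h)
    (hd : 3 ≤ finrank F₂ V) (hdet : LinearMap.det φ ≠ 0) : IsComm φ 1 := by
  obtain ⟨k, hk⟩ : ∃ k, finrank F₂ V = k + 3 := ⟨_, (Nat.sub_add_cancel hd).symm⟩
  have := isComm_cyc hφ hk (det_end_eq_one hdet) (t := 1) (u := 1) (q₀ := 1) (q₁ := 1) one_ne_zero
    one_ne_zero (by decide)
  simpa using this

theorem isComm_jordan_j2 [FiniteDimensional F₂ V] [FiniteDimensional F₂ W] {φ : Module.End F₂ V}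
    {ψ : Module.End F₂ W} {m : ℕ} (hφ : Cyc φ ((X - C 1) ^ (m + 5))) (hψ : Cyc ψ J) :
    IsComm (φ.prodMap ψ) 1 := by
  have hQm := monic_jordan (m + 3)
  have : Module.Finite F₂ (AdjoinRoot ((X - C 1 : F₂[X]) ^ (m + 3))) :=
    (AdjoinRoot.powerBasis hQm.ne_zero).finite
  obtain ⟨E, hE⟩ := exists_blocks_equiv j2 j2
  obtain ⟨E₁, hE₁⟩ := cyc_j2.exists_equiv (cyc_model (monic_jordan 2))
  obtain ⟨E₂, hE₂⟩ := cyc_j2.exists_equiv hψ
  obtain ⟨α₁, b₁, hα₁, hb₁, hab₁, hp₁⟩ :=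
    IsCommPoly.conj (ψ := (model ((X - C 1 : F₂[X]) ^ 2)).prodMap ψ) (w_22p.conj E hE)
      (E₁.prodCongr E₂) fun x => Prod.ext (hE₁ x.1) (hE₂ x.2)
  have hm : finrank F₂ (AdjoinRoot ((X - C 1 : F₂[X]) ^ (m + 3))) = m + 3 := by
    rw [(AdjoinRoot.powerBasis hQm.ne_zero).finrank, AdjoinRoot.powerBasis_dim, natDegree_jordan]
  have hdetQ : LinearMap.det (model ((X - C 1 : F₂[X]) ^ (m + 3))) = 1 := by
    refine eq_one_of_ne_zero _ ?_
    rw [det_model hQm, coeff_zero_eq_eval_zero, eval_pow]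
    simp
  obtain ⟨α₂, hα₂, hα₂', hfix, hd₂⟩ := exists_factor (cyc_model hQm) hm (t := (1 : F₂)) (u := 1)
    (q₀ := 1) (q₁ := 1) (q₀' := 1) (q₁' := 1) one_ne_zero one_ne_zero (by decide)
    (by rw [hdetQ, one_mul])
  obtain ⟨E', hE'⟩ := hα₂'.exists_equiv hα₂
  obtain ⟨c, hc, hcd⟩ := hfix (LinearMap.det E'.toLinearMap)⁻¹ (inv_ne_zero E'.isUnit_det'.ne_zero)
  have hab₂ : α₂ * (c * E'.toLinearMap) =
      (c * E'.toLinearMap) * (model ((X - C 1 : F₂[X]) ^ (m + 3)) * α₂) := by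
    rw [← mul_assoc, ← hc, mul_assoc, mul_assoc c]
    congr 1
    exact LinearMap.ext fun x => (hE' x).symm
  have hcop : IsCoprime quartic (lin m (1 : F₂) 1 * quad 1 1) := by
    have h2 : (2 : F₂[X]) = 0 := by
      rw [← map_ofNat C 2, show (2 : F₂) = 0 by decide, C_0]
    have hlin : IsCoprime quartic (X - C (1 : F₂)) :=
      ((irreducible_X_sub_C (1 : F₂)).coprime_iff_not_dvd.2 fun hd => by
        have := dvd_iff_isRoot.1 hd
        simp [quartic, IsRoot] at this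
        exact absurd this (by decide)).symm
    refine (hlin.pow_right.mul_right hlin).mul_right ⟨1, X ^ 2 + X, ?_⟩
    simp only [quartic, quad, C_1, one_mul]
    linear_combination (X ^ 4 + X ^ 3 + X ^ 2 + X) * h2
  have hφ' : Cyc φ ((X - C 1) ^ 2 * (X - C 1) ^ (m + 3)) := by
    rwa [← pow_add, show 2 + (m + 3) = m + 5 by omega]
  have := isComm_jordan_glue 1 2 (m + 3) hφ' hα₁ hd₂ hb₁
    (by rw [map_mul, hcd, inv_mul_cancel₀ E'.isUnit_det'.ne_zero]) hab₁ hab₂ hp₁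
    hα₂'.aeval_self hcop
  simpa using this

/-- A commutator which stays one after adding a Jordan block of size two. -/
def Good (φ : Module.End F₂ V) : Prop :=
  IsComm φ 1 ∧ ∀ {W : Type} [AddCommGroup W] [Module F₂ W] [FiniteDimensional F₂ W]
    (ψ : Module.End F₂ W), Cyc ψ J → IsComm (φ.prodMap ψ) 1

theorem Good.conj {φ : Module.End F₂ V} {ψ : Module.End F₂ W} (h : Good φ) (E : V ≃ₗ[F₂] W)
    (hE : ∀ x, E (φ x) = ψ (E x)) : Good ψ :=
  ⟨h.1.conj E hE, fun χ hχ => (h.2 χ hχ).prod_congr E (LinearEquiv.refl _ _) hE fun _ => rfl⟩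

theorem isComm_pair_j2 [FiniteDimensional F₂ V] [FiniteDimensional F₂ W] {φ : Module.End F₂ V}
    {ψ : Module.End F₂ W} (hφ : Cyc φ J) (hψ : Cyc ψ J) : IsComm (φ.prodMap ψ) 1 :=
  (isComm_blocks w_22).prod_of_cyc cyc_j2 cyc_j2 hφ hψ

theorem isComm_triple_j2 [FiniteDimensional F₂ V] [FiniteDimensional F₂ W] [FiniteDimensional F₂ Z]
    {φ : Module.End F₂ V} {ψ : Module.End F₂ W} {χ : Module.End F₂ Z} (hφ : Cyc φ J) (hψ : Cyc ψ J)
    (hχ : Cyc χ J) : IsComm ((φ.prodMap ψ).prodMap χ) 1 := by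
  obtain ⟨E, hE⟩ := exists_blocks_equiv j2 j2
  obtain ⟨E₁, hE₁⟩ := cyc_j2.exists_equiv hφ
  obtain ⟨E₂, hE₂⟩ := cyc_j2.exists_equiv hψ
  obtain ⟨E₃, hE₃⟩ := cyc_j2.exists_equiv hχ
  have h := IsComm.prod_congr (ψ' := Matrix.toLin' j2) (isComm_blocks w_222) E
    (LinearEquiv.refl _ _) hE (fun _ => rfl)
  exact h.prod_congr (E₁.prodCongr E₂) E₃ (fun x => Prod.ext (hE₁ x.1) (hE₂ x.2)) hE₃

/-- The state of a product of blocks. -/
def State (φ : Module.End F₂ V) : Prop := Subsingleton V ∨ Cyc φ J ∨ Good φ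

theorem State.conj {φ : Module.End F₂ V} {ψ : Module.End F₂ W} (h : State φ) (E : V ≃ₗ[F₂] W)
    (hE : ∀ x, E (φ x) = ψ (E x)) : State ψ := by
  rcases h with h | h | h
  · exact Or.inl E.symm.toEquiv.subsingleton
  · exact Or.inr (Or.inl (h.of_conj E hE))
  · exact Or.inr (Or.inr (h.conj E hE))

theorem state_block [FiniteDimensional F₂ V] {φ : Module.End F₂ V} {π : F₂[X]} {e : ℕ}
    (hπ : Irreducible π) (hπm : π.Monic) (hφ : Cyc φ (π ^ e)) (hdet : LinearMap.det φ ≠ 0) :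
    State φ := by
  set p := π ^ e with hp
  have hp0 : p.coeff 0 = 1 := eq_one_of_ne_zero _ fun h => hdet (by rw [hφ.det_eq, h, mul_zero])
  have hd := hφ.2.2.1
  have hpm := hφ.1
  rcases Nat.lt_or_ge (finrank F₂ V) 3 with hlt | hge
  · interval_cases hn : finrank F₂ V
    · exact Or.inl (finrank_zero_iff.1 hn)
    · have hX : p = X - C 1 := by
        rw [hpm.eq_X_add_C hd, hp0, sub_eq_add_neg, ← C_neg, show (-1 : F₂) = 1 by decide]
      have h1 : φ = 1 := by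
        have := hφ.aeval_self
        rwa [hX, map_sub, aeval_X, aeval_C, map_one, sub_eq_zero] at this
      refine Or.inr (Or.inr ⟨h1 ▸ isComm_one, fun {W} _ _ _ ψ hψ => ?_⟩)
      have hc : Cyc (Matrix.toLin' (1 : Matrix (Fin 1) (Fin 1) F₂)) p := by
        rw [hX]
        refine cyc_matrix 1 ![1] (monic_X_sub_C 1) (natDegree_X_sub_C 1) (by decide) ?_
        simp
      exact ((isComm_blocks w_t).prod_of_cyc cyc_j2 hc hψ hφ).swap
    · have hquad : p = quad 1 (p.coeff 1) := by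
        ext i
        rcases i with _ | _ | _ | i
        · simp [quad, hp0]
        · simp [quad, coeff_one, coeff_C]
        · simpa [quad, hd, coeff_one, coeff_C] using hpm.coeff_natDegree
        · rw [coeff_eq_zero_of_natDegree_lt (by omega),
            coeff_eq_zero_of_natDegree_lt (by rw [natDegree_quad]; omega)]
      rcases (show ∀ x : F₂, x = 0 ∨ x = 1 by decide) (p.coeff 1) with ha | ha
      · refine Or.inr (Or.inl ?_)
        have h2 : (2 : F₂[X]) = 0 := by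
          rw [← map_ofNat C 2, show (2 : F₂) = 0 by decide, C_0]
        have : p = J := by
          rw [hquad, ha, J, quad]
          simp only [C_1, C_0, zero_mul, add_zero]
          linear_combination X * h2
        rwa [← this]
      · rw [hquad, ha] at hφ
        refine Or.inr (Or.inr ⟨isComm_q2.of_cyc cyc_q2 hφ, fun {W} _ _ _ ψ hψ => ?_⟩)
        have hcop : IsCoprime (quad (1 : F₂) 1) J :=
          (((irreducible_X_sub_C (1 : F₂)).coprime_iff_not_dvd.2 fun hd' => by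
            have := dvd_iff_isRoot.1 hd'
            rw [IsRoot, eval_quad] at this
            exact absurd this (by decide)).pow_left).symm
        refine isComm_of_three (hφ.prod hψ hcop) ?_ ?_
        · rw [Module.finrank_prod, hn]
          have := hψ.2.2.1
          rw [J, natDegree_jordan] at this
          omega
        · rw [LinearMap.det_prodMap]
          refine mul_ne_zero hdet ?_
          rw [hψ.det_eq, J, natDegree_jordan, coeff_zero_eq_eval_zero, eval_pow]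
          simp
  · refine Or.inr (Or.inr ⟨isComm_of_three hφ hge hdet, fun {W} _ _ _ ψ hψ => ?_⟩)
    have hψd : LinearMap.det ψ ≠ 0 := by
      rw [hψ.det_eq, J, natDegree_jordan, coeff_zero_eq_eval_zero, eval_pow]
      simp
    by_cases hX : π = X - C 1
    · rw [hp, hX] at hφ
      have he : e = finrank F₂ V := by rw [← hφ.2.2.1, natDegree_jordan]
      obtain rfl | rfl | ⟨m, rfl⟩ : e = 3 ∨ e = 4 ∨ ∃ m, e = m + 5 := by
        by_cases h5 : 5 ≤ e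
        · exact Or.inr (Or.inr ⟨e - 5, by omega⟩)
        · omega
      · exact (isComm_blocks w_32).prod_of_cyc cyc_j3 cyc_j2 hφ hψ
      · exact (isComm_blocks w_42).prod_of_cyc cyc_j4 cyc_j2 hφ hψ
      · exact isComm_jordan_j2 hφ hψ
    · have hcop : IsCoprime p J := by
        refine (IsCoprime.pow ?_ : IsCoprime (π ^ e) ((X - C 1) ^ 2))
        refine hπ.coprime_iff_not_dvd.2 fun hd' => hX ?_
        exact eq_of_monic_of_associated hπm (monic_X_sub_C 1)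
          (hπ.associated_of_dvd (irreducible_X_sub_C 1) hd')
      refine isComm_of_three (hφ.prod hψ hcop) ?_ ?_
      · rw [Module.finrank_prod]; omega
      · rw [LinearMap.det_prodMap]; exact mul_ne_zero hdet hψd

theorem state_prod [FiniteDimensional F₂ V] [FiniteDimensional F₂ W] {φ : Module.End F₂ V}
    {ψ : Module.End F₂ W} (hφ : State φ) (hψ : State ψ) : State (φ.prodMap ψ) := by
  rcases hφ with h | h | h
  · refine hψ.conj (LinearEquiv.ofBijective (LinearMap.inr F₂ V W) ⟨LinearMap.inr_injective,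
      fun x => ⟨x.2, Prod.ext (Subsingleton.elim _ _) rfl⟩⟩) fun x => ?_
    exact Prod.ext (Subsingleton.elim _ _) rfl
  all_goals rcases hψ with h' | h' | h'
  case inr.inl.inl | inr.inr.inl =>
    refine State.conj (φ := φ) (by tauto) (LinearEquiv.ofBijective (LinearMap.inl F₂ V W)
      ⟨LinearMap.inl_injective, fun x => ⟨x.1, Prod.ext rfl (Subsingleton.elim _ _)⟩⟩) fun x => ?_
    exact Prod.ext rfl (Subsingleton.elim _ _)
  · exact Or.inr (Or.inr ⟨isComm_pair_j2 h h', fun χ hχ => isComm_triple_j2 h h' hχ⟩)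
  · refine Or.inr (Or.inr ⟨(h'.2 φ h).swap, fun {Z} _ _ _ χ hχ => ?_⟩)
    have : IsComm (ψ.prodMap (φ.prodMap χ)) 1 := by simpa using h'.1.prod (isComm_pair_j2 h hχ)
    exact this.assoc.prod_congr (LinearEquiv.prodComm _ _ _) (LinearEquiv.refl _ _) (fun _ => rfl)
      fun _ => rfl
  · refine Or.inr (Or.inr ⟨h.2 ψ h', fun {Z} _ _ _ χ hχ => ?_⟩)
    have : IsComm (φ.prodMap (ψ.prodMap χ)) 1 := by simpa using h.1.prod (isComm_pair_j2 h' hχ)
    exact this.assoc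
  · refine Or.inr (Or.inr ⟨by simpa using h.1.prod h'.1, fun {Z} _ _ _ χ hχ => ?_⟩)
    have : IsComm (φ.prodMap (ψ.prodMap χ)) 1 := by simpa using h.1.prod (h'.2 χ hχ)
    exact this.assoc

theorem state_all [FiniteDimensional F₂ V] (φ : Module.End F₂ V) (hφ : LinearMap.det φ ≠ 0) :
    State φ := by
  refine induction_blocks (P := fun {V} _ _ φ => LinearMap.det φ ≠ 0 → State φ) ?_ ?_ ?_ φ hφ
  · intro V W _ _ _ _ φ ψ E hE h hd
    have he : (E.toLinearMap ∘ₗ φ) ∘ₗ E.symm.toLinearMap = ψ := LinearMap.ext fun y => by simp [hE]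
    exact (h (by rwa [← he, LinearMap.comp_assoc, LinearMap.det_conj] at hd)).conj E hE
  · intro V _ _ _ φ _
    exact Or.inl inferInstance
  · intro V W _ _ _ _ _ _ φ ψ π e h hπ hπm hψ hd
    rw [LinearMap.det_prodMap, mul_ne_zero_iff] at hd
    exact state_prod (h hd.1) (state_block hπ hπm hψ hd.2)

theorem exists_commutator {n : ℕ} (hn : n ≠ 2) (g : Matrix.SpecialLinearGroup (Fin n) F₂) :
    ∃ a b : Matrix.SpecialLinearGroup (Fin n) F₂, g = a * b * a⁻¹ * b⁻¹ := by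
  refine exists_of_isComm g ?_
  rcases state_all (Matrix.toLin' g.1) (by rw [LinearMap.det_toLin', g.2]; exact one_ne_zero) with
    h | h | h
  · exact isComm_of_subsingleton _
  · have := h.2.2.1
    rw [J, natDegree_jordan, Module.finrank_fin_fun] at this
    exact absurd this.symm hn
  · exact h.1

end CfsgLib.Classical.SmallFieldComm.FieldTwo
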